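import Groth.Agent.AVRoots.Mult
import Groth.Agent.AVDualCx.KunnethEuler
import Groth.Agent.AVDualCx.Concentrated
import Groth.Agent.AVTheta8.Degen
import Groth.Agent.AmpleX.BaseChange
import Groth.Agent.NormX.NormalAmple
import Groth.Agent.H23.TopDim
import Groth.Agent.S11999
import Groth.Agent.S12015

/-!
# The multiplicity of the root `0` is the dimension of the stabiliser
-/

noncomputable section

set_option autoImplicit false
set_option linter.style.haveILetI false
set_option linter.unusedSectionVars false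
set_option backward.isDefEq.respectTransparency false
set_option backward.isDefEq.respectTransparency.types false
set_option maxHeartbeats 1000000

universe u

open CategoryTheory CategoryTheory.Limits MonoidalCategory CartesianMonoidalCategory MonObj AlgebraicGeometry TopologicalSpace

namespace Groth.Agent.AVRoots

open Groth.Agent Groth.Agent.H23 Groth.Agent.H23.TrivBasic Groth.Agent.AVCube Groth.Agent.AVPair Groth.Agent.AVTheta8
open scoped Groth.Agent.H23.PicMul

variable {k : Type u} [Field k] [IsAlgClosed k] {A : Over (Spec (CommRingCat.of k))} [GrpObj A] [IsProper A.hom]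
  [GeometricallyIntegral A.hom]

local notation "pt₀" => 𝟙_ (Over (Spec (CommRingCat.of k)))

theorem tr_comp_tr (a b : pt₀ ⟶ A) : CubeAb.tr a ≫ CubeAb.tr b = CubeAb.tr (a * b) := by
  show (𝟙 A * (toUnit A ≫ a)) ≫ (𝟙 A * (toUnit A ≫ b)) = 𝟙 A * (toUnit A ≫ (a * b))
  rw [MonObj.comp_mul, Category.comp_id, ← Category.assoc, toUnit_unique (_ ≫ toUnit A) (toUnit A), _root_.mul_assoc,
    MonObj.comp_mul]

theorem tr_self_inv (a : pt₀ ⟶ A) : CubeAb.tr a ≫ CubeAb.tr a⁻¹ = 𝟙 A := by
  rw [tr_comp_tr, mul_inv_cancel]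
  exact AVAmple.tr_one

theorem isIso_tr_left (a : pt₀ ⟶ A) : IsIso (CubeAb.tr a).left := by
  haveI : IsIso (CubeAb.tr a) := ⟨CubeAb.tr a⁻¹, tr_self_inv a, by simpa using tr_self_inv a⁻¹⟩
  exact (Over.forget _).map_isIso (CubeAb.tr a)

/-- A closed set whose rational points lie in finitely many translates of a subvariety. -/
theorem dim_le_of_translates {C : Over (Spec (CommRingCat.of k))} (j : C ⟶ A) [IsClosedImmersion j.left]
    {S : Set A.left} (hS : IsClosed S) {F : Finset (pt₀ ⟶ A)}
    (hF : ∀ a : pt₀ ⟶ A, AVAmple.pt a ∈ S → ∃ f ∈ F, ∃ y : pt₀ ⟶ C, a = f * (y ≫ j)) :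
    topologicalKrullDim ↥S ≤ topologicalKrullDim C.left := by
  haveI : IsCommMonObj A := isCommMonObj_of_isProper_of_geometricallyIntegral A
  haveI : JacobsonSpace A.left := LocallyOfFiniteType.jacobsonSpace A.hom
  let T : F → Set A.left := fun f => Set.range (j ≫ CubeAb.tr f.1).left
  have hemb : ∀ f : F, IsClosedImmersion (j ≫ CubeAb.tr f.1).left := fun f => by
    haveI := isIso_tr_left f.1
    rw [Over.comp_left]
    infer_instance
  have hT : ∀ f, IsClosed (T f) := fun f => by
    haveI := hemb f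
    exact (j ≫ CubeAb.tr f.1).left.isClosedEmbedding.isClosed_range
  have hcov : S ⊆ ⋃ f, T f := by
    intro s hs
    by_contra hsn
    obtain ⟨x, ⟨hx, hx'⟩, hxc⟩ := nonempty_inter_closedPoints (Z := S ∩ (⋃ f, T f)ᶜ) ⟨s, hs, hsn⟩
      (hS.isLocallyClosed.inter (isClosed_iUnion_of_finite hT).isOpen_compl.isLocallyClosed)
    obtain ⟨a, rfl⟩ := AVAmple.exists_pt (mem_closedPoints_iff.1 hxc)
    obtain ⟨f, hf, y, rfl⟩ := hF a hx
    refine hx' (Set.mem_iUnion.2 ⟨⟨f, hf⟩, y.left (IsLocalRing.closedPoint k), ?_⟩)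
    show (y ≫ j ≫ CubeAb.tr f).left (IsLocalRing.closedPoint k) = (f * (y ≫ j)).left (IsLocalRing.closedPoint k)
    congr 2
    rw [MonObj.comp_mul, Category.comp_id, MonObj.comp_mul, ← Category.assoc, ← Category.assoc,
      toUnit_unique ((y ≫ j) ≫ toUnit A) (𝟙 _), Category.id_comp, mul_comm]
  refine (TopDim.dim_le_dim_of_subset hcov).trans ?_
  rw [TopDim.dim_eq_iSup_of_closed_cover (X := ↥(⋃ f, T f)) (Y := fun f => Subtype.val ⁻¹' T f)
    (fun f => (hT f).preimage continuous_subtype_val) (locallyFinite_of_finite _)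
    (Set.eq_univ_of_forall fun x => by
      obtain ⟨f, hf⟩ := Set.mem_iUnion.1 x.2
      exact Set.mem_iUnion.2 ⟨f, hf⟩)]
  refine iSup_le fun f => ?_
  haveI := hemb f
  let e := ((j ≫ CubeAb.tr f.1).left.isClosedEmbedding.isEmbedding.toHomeomorph).symm
  let inc : ↥(Subtype.val ⁻¹' T f : Set ↥(⋃ f, T f)) → ↥(T f) := fun x => ⟨x.1.1, x.2⟩
  have hinc : Topology.IsInducing inc :=
    (Topology.IsInducing.subtypeVal.comp Topology.IsInducing.subtypeVal).codRestrict fun x => x.2
  exact (e.isInducing.comp hinc).topologicalKrullDim_le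

variable {B : Over (Spec (CommRingCat.of k))} [GrpObj B] [IsProper B.hom] [GeometricallyIntegral B.hom]

/-- Translation differences killed by an isogeny take finitely many values. -/
theorem finite_delta_killed (f : B ⟶ A) [IsMonHom f] [Surjective f.left] {L : A.left.Modules}
    (hL : PicF.IsInvertible L) : {d : (PicF.Cl A.left)ˣ | (∃ a, delta hL a = d) ∧
      Units.map (PicMul.pullHom f.left : PicF.Cl A.left →* PicF.Cl B.left) d = 1}.Finite := by
  obtain ⟨m, N, hN⟩ := S12015.result k B A f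
  refine ((Set.finite_range fun i => PicF.cl (N i)).preimage Units.val_injective.injOn).subset ?_
  rintro d ⟨⟨a, rfl⟩, hd⟩
  obtain ⟨M, hM, hMa⟩ := algEquivZero_delta hL a
  have hMi : PicF.IsInvertible M := by
    obtain ⟨M', hM', hM'i⟩ : PicF.IsInvertibleCl ((delta hL a : (PicF.Cl A.left)ˣ) : PicF.Cl A.left) := by
      simp only [delta, div_eq_mul_inv, Units.val_mul]
      exact PicMul.isInvertibleCl_mul (PicClLib.isInvertibleCl_pullCl _ ⟨L, rfl, hL⟩)
        (isInvertibleCl_units (PicClLib.isInvertibleCl_pullCl _ ⟨L, rfl, hL⟩))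
    exact PicMul.isInvertible_of_iso (PicMul.cl_eq_iff.1 (hM'.trans hM.symm)).some hM'i
  obtain ⟨i, hi⟩ := hN M hMi hMa (PicMul.cl_eq_iff.1 (by
    show PicMul.pullHom f.left (PicF.cl M) = 1
    rw [hM]
    exact congrArg Units.val hd))
  exact ⟨i, by
    show PicF.cl (N i) = _
    rw [← hM]
    exact (PicMul.cl_eq_iff.2 hi).symm⟩

variable {L H : A.left.Modules} (hL : PicF.IsInvertible L) (hH : CohB1.IsAmple H)
  {g : ℕ} (hg : topologicalKrullDim A.left = g) {Φ : Polynomial ℚ}
  (hΦ : ∀ n : ℕ, Φ.eval (n : ℚ) =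
    (@Curv2.euler k _ A.left ⟨A.hom⟩ (CohB1.tensorMod L (CohB1.tensorPow H n)) : ℚ))

include hH hg hΦ in
/-- **The multiplicity of `0` is the dimension of the stabiliser.** -/
theorem dim_stab_eq {S : Set A.left} (hS : IsClosed S) (hSs : ∀ a : pt₀ ⟶ A, AVAmple.pt a ∈ S ↔ a ∈ stab hL) :
    topologicalKrullDim ↥S = ((Φ.rootMultiplicity 0 : ℕ) : WithBot ℕ∞) := by
  haveI : IsCommMonObj A := isCommMonObj_of_isProper_of_geometricallyIntegral A
  obtain ⟨Z, iZ, i, hi, hic, hrange⟩ := exists_redGroup (stab hL) hS hSs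
  obtain ⟨C, iC, hCp, hCg, j, hj, c, hjc, hcj, F, hF⟩ := AVSubLib.exists_component A Z i
  haveI : IsIntegral C.left := GeometricallyIntegral.isIntegral_of_subsingleton C.hom
  haveI : IsIntegral A.left := GeometricallyIntegral.isIntegral_of_subsingleton A.hom
  obtain ⟨d, hd⟩ : ∃ d : ℕ, topologicalKrullDim C.left = d :=
    ⟨_, VarDim.topologicalKrullDim_eq_deg_genericPoint C.hom⟩
  have hjS : Set.range j.left ⊆ S := by
    rw [← hrange, ← hcj, Over.comp_left, Scheme.Hom.comp_base, TopCat.coe_comp]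
    exact Set.range_comp_subset_range _ _
  have hjstab : ∀ y : pt₀ ⟶ C, y ≫ j ∈ stab hL := fun y => (hSs _).1 (hjS ⟨y.left (IsLocalRing.closedPoint k), rfl⟩)
  have hdimS : topologicalKrullDim ↥S = d := by
    refine le_antisymm ?_ ?_
    · rw [← hd]
      refine dim_le_of_translates j hS (F := F) fun a ha => ?_
      have hp : AVAmple.pt a ∈ Set.range i.left := by rw [hrange]; exact ha
      obtain ⟨z, hz⟩ := hp
      haveI : LocallyOfFiniteType Z.hom := by rw [← Over.w i]; infer_instance
      have hzc : IsClosed ({z} : Set Z.left) := by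
        have h := (AVAmple.isClosed_pt a).preimage i.left.continuous
        rw [← hz] at h
        convert h using 1
        exact (Set.preimage_image_eq {z} i.left.isEmbedding.injective).symm.trans (by rw [Set.image_singleton])
      obtain ⟨x, rfl⟩ := AVSubLib.exists_pt hzc
      obtain ⟨f, hf, y, hy⟩ := hF x
      exact ⟨f, hf, y, (show a = f * (y ≫ j) from (AVTheta8.pt_injective hz).symm.trans hy)⟩
    · rw [← hd, IsHomeomorph.topologicalKrullDim_eq _ j.left.isClosedEmbedding.isEmbedding.toHomeomorph.isHomeomorph]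
      exact TopDim.dim_le_dim_of_subset hjS
  rw [hdimS, Nat.cast_inj]
  -- a complement of `C`
  obtain ⟨W, iW, w, hWp, hWg, hw, hwc, hsurj, hfin⟩ := S11999.result k A C j
  let B : Over (Spec (CommRingCat.of k)) := C ⊗ W
  haveI : IsProper B.hom := AVIndex.isProper_tensor
  haveI : GeometricallyIntegral B.hom := H23.MaxAbelian.geometricallyIntegral_tensor C W
  haveI : IsIntegral W.left := GeometricallyIntegral.isIntegral_of_subsingleton W.hom
  haveI : IsIntegral B.left := GeometricallyIntegral.isIntegral_of_subsingleton B.hom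
  let f : B ⟶ A := (fst C W ≫ j) * (snd C W ≫ w)
  haveI : Surjective f.left := hsurj
  haveI : IsFinite f.left := hfin
  haveI : IsMonHom f := GrpSchLib.RigidHom.isMonHom_of_one f (by
    simp [f, MonObj.comp_mul, MonObj.one_eq_one])
  haveI : Flat f.left := GrpSchLib.flat_of_surjective_hom f
  haveI : IsLocallyNoetherian B.left := LocallyOfFiniteType.isLocallyNoetherian B.hom
  haveI : IsLocallyNoetherian A.left := LocallyOfFiniteType.isLocallyNoetherian A.hom
  have hgB : topologicalKrullDim B.left = g := (AVDualCx.dim_eq_of_finite_surjective f.left).trans hg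
  obtain ⟨e, he⟩ : ∃ e : ℕ, topologicalKrullDim W.left = e :=
    ⟨_, VarDim.topologicalKrullDim_eq_deg_genericPoint W.hom⟩
  obtain ⟨m, hm, hmr⟩ := AVIndex.exists_deg f
  letI : A.left.Over (Spec (CommRingCat.of k)) := ⟨A.hom⟩
  letI : B.left.Over (Spec (CommRingCat.of k)) := ⟨B.hom⟩
  letI : C.left.Over (Spec (CommRingCat.of k)) := ⟨C.hom⟩
  letI : W.left.Over (Spec (CommRingCat.of k)) := ⟨W.hom⟩
  haveI : IsProper (A.left ↘ Spec (CommRingCat.of k)) := ‹IsProper A.hom›
  haveI : IsProper (B.left ↘ Spec (CommRingCat.of k)) := ‹IsProper B.hom›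
  haveI : IsProper (C.left ↘ Spec (CommRingCat.of k)) := hCp
  haveI : IsProper (W.left ↘ Spec (CommRingCat.of k)) := hWp
  let LB := (Scheme.Modules.pullback f.left).obj L
  let HB := (Scheme.Modules.pullback f.left).obj H
  have hLB : PicF.IsInvertible LB := PicClLib.isInvertible_pullback _ hL
  have hHB : CohB1.IsAmple HB := NormX.isAmple_pullback_affine f.left hH
  have hΦB : ∀ n : ℕ, (Polynomial.C (m : ℚ) * Φ).eval (n : ℚ) =
      (Curv2.euler k B.left (CohB1.tensorMod LB (CohB1.tensorPow HB n)) : ℚ) := fun n => by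
    rw [Polynomial.eval_mul, Polynomial.eval_C, hΦ,
      CurveCohLib.euler_congr (k := k) (PicMul.cl_eq_iff.1 (show PicF.cl (CohB1.tensorMod LB (CohB1.tensorPow HB n)) =
        PicF.cl ((Scheme.Modules.pullback f.left).obj (CohB1.tensorMod L (CohB1.tensorPow H n))) by
        show _ = PicF.pullCl f.left (PicF.cl _)
        rw [PicMul.cl_tensor, PicMul.cl_tensor, PicMul.cl_tensorPow, PicMul.cl_tensorPow, PicMul.pullCl_mul,
          PicMul.pullCl_pow]
        rfl)).some,
      AVEuler.euler_pullback f m hmr _ (AmpleVan.isCoh_invertible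
        (PicMul.isInvertible_tensor hL (PicMul.isInvertible_tensorPow hH.1 n)))]
    push_cast
    rfl
  -- the splitting
  let LC := (Scheme.Modules.pullback j.left).obj L
  let LW := (Scheme.Modules.pullback w.left).obj L
  let HC := (Scheme.Modules.pullback j.left).obj H
  let HW := (Scheme.Modules.pullback w.left).obj H
  have hLC : PicF.IsInvertible LC := PicClLib.isInvertible_pullback _ hL
  have hLW : PicF.IsInvertible LW := PicClLib.isInvertible_pullback _ hL
  have hHC : CohB1.IsAmple HC := NormX.isAmple_pullback_affine j.left hH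
  have hHW : CohB1.IsAmple HW := NormX.isAmple_pullback_affine w.left hH
  have hsplit : PicF.cl LB = pl (fst C W) (PicF.cl LC) * pl (snd C W) (PicF.cl LW) := by
    show pl f (PicF.cl L) = pl (fst C W) (pl j (PicF.cl L)) * pl (snd C W) (pl w (PicF.cl L))
    rw [pl_pl, pl_pl, mul_comm (pl (fst C W ≫ j) (PicF.cl L)), ← pl_mul_split j hL hjstab]
    exact congrArg (fun x => pl x (PicF.cl L)) (mul_comm _ _)
  let H' := CohB1.tensorMod ((Scheme.Modules.pullback (fst C W).left).obj HC)
    ((Scheme.Modules.pullback (snd C W).left).obj HW)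
  have hH' : CohB1.IsAmple H' := by
    haveI : CompactSpace C.left := QuasiCompact.compactSpace_of_compactSpace C.hom
    haveI : CompactSpace W.left := QuasiCompact.compactSpace_of_compactSpace W.hom
    have h := AmpleX.isRelAmple_prod (𝟙 (Spec (CommRingCat.of k))) (𝟙 _) C.hom W.hom
      ((AmpleX.isRelAmple_iff_isAmple C.hom _).2 hHC) ((AmpleX.isRelAmple_iff_isAmple W.hom _).2 hHW)
    haveI := h.1
    haveI : IsAffine (pullback (𝟙 (Spec (CommRingCat.of k))) (𝟙 (Spec (CommRingCat.of k)))) :=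
      IsAffine.of_isIso (pullback.fst _ _)
    have h2 := (AmpleX.isRelAmple_iff_isAmple _ _).1 h
    exact h2
  -- finiteness of the stabiliser on the complement
  have hfinW : (AVIndex.fixSet₀ LW).Finite := by
    let G := {z : pt₀ ⟶ W | z ≫ w ∈ stab hL}
    have hker : {x : pt₀ ⟶ B | x ≫ f = 1}.Finite := by
      refine Set.Finite.subset (Set.Finite.preimage (fun a _ b _ h => AVTheta8.pt_injective h)
        (f.left.finite_preimage_singleton (AVAmple.pt (1 : pt₀ ⟶ A)))) ?_
      intro x hx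
      show f.left (AVAmple.pt x) = AVAmple.pt 1
      rw [← hx]
      rfl
    have hG : G.Finite := by
      have hpre : ∀ fa ∈ F, {z : pt₀ ⟶ W | ∃ y : pt₀ ⟶ C, z ≫ w = fa * (y ≫ j)}.Finite := fun fa _ => by
        rcases Set.eq_empty_or_nonempty {z : pt₀ ⟶ W | ∃ y : pt₀ ⟶ C, z ≫ w = fa * (y ≫ j)} with h | ⟨z₀, y₀, hz₀⟩
        · rw [h]; exact Set.finite_empty
        refine (hker.image fun x => z₀ * (x ≫ snd C W)⁻¹).subset ?_
        rintro z ⟨y, hz⟩
        refine ⟨lift (y * y₀⁻¹) (z⁻¹ * z₀), ?_, ?_⟩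
        · show _ ≫ f = 1
          rw [MonObj.comp_mul, lift_fst_assoc, lift_snd_assoc, MonObj.mul_comp, MonObj.mul_comp, GrpObj.inv_comp,
            GrpObj.inv_comp, hz, hz₀]
          rw [mul_inv_rev, _root_.mul_assoc (y ≫ j)⁻¹, inv_mul_cancel_left, mul_comm (y ≫ j) _, _root_.mul_assoc,
            mul_inv_cancel_left, inv_mul_cancel]
        · show z₀ * (lift _ _ ≫ snd C W)⁻¹ = z
          rw [lift_snd, mul_inv_rev, _root_.inv_inv, mul_inv_cancel_left]
      refine (F.finite_toSet.biUnion hpre).subset fun z hz => ?_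
      have hp : AVAmple.pt (z ≫ w) ∈ Set.range i.left := by rw [hrange]; exact (hSs _).2 hz
      obtain ⟨zz, hzz⟩ := hp
      haveI : LocallyOfFiniteType Z.hom := by rw [← Over.w i]; infer_instance
      have hzc : IsClosed ({zz} : Set Z.left) := by
        have h := (AVAmple.isClosed_pt (z ≫ w)).preimage i.left.continuous
        rw [← hzz] at h
        convert h using 1
        exact (Set.preimage_image_eq {zz} i.left.isEmbedding.injective).symm.trans (by rw [Set.image_singleton])
      obtain ⟨x, rfl⟩ := AVSubLib.exists_pt hzc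
      obtain ⟨fa, hfa, y, hy⟩ := hF x
      exact Set.mem_biUnion (Finset.mem_coe.2 hfa) ⟨y, (AVTheta8.pt_injective hzz).symm.trans hy⟩
    have hval : ∀ z ∈ AVIndex.fixSet₀ LW, delta hL (z ≫ w) ∈ {d : (PicF.Cl A.left)ˣ | (∃ a, delta hL a = d) ∧
        Units.map (PicMul.pullHom f.left : PicF.Cl A.left →* PicF.Cl B.left) d = 1} := fun z hz => by
      refine ⟨⟨_, rfl⟩, ?_⟩
      let x : pt₀ ⟶ B := lift 1 z
      have hxf : x ≫ f = z ≫ w := by
        rw [MonObj.comp_mul, lift_fst_assoc, lift_snd_assoc, MonObj.one_comp, _root_.one_mul]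
      have h1 := delta_pullback f hL x
      rw [hxf] at h1
      rw [← h1]
      have hC' : PicF.IsInvertible ((Scheme.Modules.pullback (fst C W).left).obj LC) :=
        PicClLib.isInvertible_pullback _ hLC
      have hW' : PicF.IsInvertible ((Scheme.Modules.pullback (snd C W).left).obj LW) :=
        PicClLib.isInvertible_pullback _ hLW
      rw [AVIndex.delta_of_mul hC' hW' _ hsplit, delta_pullback (fst C W) hLC, delta_pullback (snd C W) hLW,
        lift_fst, lift_snd, (AVIndex.mem_fixSet₀_iff hLW z).1 hz, map_one, _root_.mul_one]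
      rw [show delta hLC (1 : pt₀ ⟶ C) = 1 from (stab hLC).one_mem, map_one]
    refine Set.Finite.subset ((finite_delta_killed f hL).biUnion fun dd _ => ?_) fun z hz =>
      Set.mem_biUnion (x := delta hL (z ≫ w)) (t := fun dd => {z : pt₀ ⟶ W | delta hL (z ≫ w) = dd}) (hval z hz) rfl
    rcases Set.eq_empty_or_nonempty {z : pt₀ ⟶ W | delta hL (z ≫ w) = dd} with h | ⟨z₀, hz₀⟩
    · rw [h]; exact Set.finite_empty
    refine (hG.image (z₀ * ·)).subset fun z hz => ⟨z₀⁻¹ * z, ?_, mul_inv_cancel_left _ _⟩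
    show delta hL ((z₀⁻¹ * z) ≫ w) = 1
    have h2 := delta_mul hL (z₀ ≫ w) ((z₀⁻¹ * z) ≫ w)
    rw [← MonObj.mul_comp, mul_inv_cancel_left, show delta hL (z ≫ w) = dd from hz,
      show delta hL (z₀ ≫ w) = dd from hz₀] at h2
    exact left_eq_mul.1 h2
  -- the two factors
  obtain ⟨ΨW, hΨW⟩ := exists_hilbert hLW hHW he
  have hW0 : ΨW.eval 0 ≠ 0 := by
    have h := hΨW 0
    rw [Nat.cast_zero, CurveCohLib.euler_congr (k := k) (PicMul.cl_eq_iff.1
      (show PicF.cl (CohB1.tensorMod LW (CohB1.tensorPow HW 0)) = PicF.cl LW by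
        rw [PicMul.cl_tensor, PicMul.cl_tensorPow, pow_zero, _root_.mul_one])).some] at h
    rw [h]
    exact_mod_cast AVIndex.euler_ne_zero hLW hfinW
  obtain ⟨ΨC, hΨC⟩ := exists_hilbert hLC hHC hd
  have hCeq : ΨC = Polynomial.C (Curv2.euler k C.left HC : ℚ) * Polynomial.X ^ d := by
    refine Polynomial.eq_of_infinite_eval_eq _ _ ((Set.infinite_range_of_injective
      (f := fun j : ℕ => ((j + 1 : ℕ) : ℚ)) fun a b hab => by simpa using hab).mono ?_)
    rintro _ ⟨n, rfl⟩
    show ΨC.eval ((n + 1 : ℕ) : ℚ) = _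
    rw [Polynomial.eval_mul, Polynomial.eval_C, Polynomial.eval_pow, Polynomial.eval_X, hΨC]
    haveI : IsCommMonObj C := isCommMonObj_of_isProper_of_geometricallyIntegral C
    have hHn : CohB1.IsAmple (CohB1.tensorPow HC (n + 1)) := AmpleX.isAmple_tensorPow hHC n.succ_pos
    have hinv : ∀ b : pt₀ ⟶ C, Nonempty ((Scheme.Modules.pullback (𝟙 C * (toUnit C ≫ b)).left).obj LC ≅ LC) :=
      fun b => (mem_stab hLC b).1 (by
        show delta hLC b = 1
        rw [delta_pullback j hL b, show delta hL (b ≫ j) = 1 from hjstab b, map_one])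
    obtain ⟨a, ha⟩ := exists_translate_iso hHn.1 hLC hinv
      (((conc_of_isAmple hHn).finite hHn.1).subset fun x hx => PicMul.cl_eq_iff.2 hx)
    haveI := isIso_tr_left a
    haveI : IsLocallyNoetherian C.left := LocallyOfFiniteType.isLocallyNoetherian C.hom
    obtain ⟨D, hD, ⟨u⟩⟩ := H23.PicInv.exists_inverse hHC.1
    have hHD : PicF.cl HC * PicF.cl D = 1 := by
      rw [← PicMul.cl_tensor, PicMul.one_def]; exact PicMul.cl_eq_iff.2 ⟨u⟩
    have hhom := AVEuler.euler_homogeneous hd hHC.1 hD hHD (n + 1) 0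
    rw [Nat.cast_zero, sub_zero, CurveCohLib.euler_congr (k := k) (PicMul.cl_eq_iff.1
      (show PicF.cl (CohB1.tensorMod (CohB1.tensorPow HC (n + 1)) (CohB1.tensorPow D 0)) =
          PicF.cl (CohB1.tensorPow HC (n + 1)) by
        rw [PicMul.cl_tensor, PicMul.cl_tensorPow D, pow_zero, _root_.mul_one])).some] at hhom
    rw [CurveCohLib.euler_congr (k := k) (PicMul.cl_eq_iff.1
      (show PicF.cl (CohB1.tensorMod LC (CohB1.tensorPow HC (n + 1))) =
          PicF.cl ((Scheme.Modules.pullback (CubeAb.tr a).left).obj (CohB1.tensorPow HC (n + 1))) by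
        rw [PicMul.cl_tensor]; exact ha.symm)).some,
      AVDualCx.euler_pullback_iso (k := k) (CubeAb.tr a).left (Over.w (CubeAb.tr a))
        (AmpleVan.isCoh_invertible hHn.1).1, hhom, mul_comm]
  let Φ' : Polynomial ℚ := ΨC * ΨW
  have hΦ' : ∀ n : ℕ, Φ'.eval (n : ℚ) =
      (Curv2.euler k B.left (CohB1.tensorMod LB (CohB1.tensorPow H' n)) : ℚ) := fun n => by
    rw [Polynomial.eval_mul, hΨC, hΨW, ← Int.cast_mul,
      ← AVDualCx.euler_prod C W (PicMul.isInvertible_tensor hLC (PicMul.isInvertible_tensorPow hHC.1 n))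
        (PicMul.isInvertible_tensor hLW (PicMul.isInvertible_tensorPow hHW.1 n))]
    have hov : (⟨pullback.snd C.hom W.hom ≫ W.hom⟩ : (pullback C.hom W.hom).Over (Spec (CommRingCat.of k))) =
        ⟨B.hom⟩ := by
      congr 1
      exact pullback.condition.symm
    rw [hov]
    letI : (pullback C.hom W.hom).Over (Spec (CommRingCat.of k)) := ⟨B.hom⟩
    haveI : IsProper ((pullback C.hom W.hom) ↘ Spec (CommRingCat.of k)) := ‹IsProper B.hom›
    congr 1
    refine CurveCohLib.euler_congr (k := k) (PicMul.cl_eq_iff.1 ?_).some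
    show PicF.cl (CohB1.tensorMod ((Scheme.Modules.pullback (snd C W).left).obj _)
      ((Scheme.Modules.pullback (fst C W).left).obj _)) = _
    rw [PicMul.cl_tensor, PicMul.cl_tensor, PicMul.cl_tensorPow, hsplit, PicMul.cl_tensor]
    show pl (snd C W) (PicF.cl _) * pl (fst C W) (PicF.cl _) =
      _ * (pl (fst C W) (PicF.cl HC) * pl (snd C W) (PicF.cl HW)) ^ n
    rw [PicMul.cl_tensor, PicMul.cl_tensor, PicMul.cl_tensorPow, PicMul.cl_tensorPow, map_mul, map_mul, map_pow,
      map_pow, _root_.mul_pow]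
    ac_rfl
  have hcC : (Curv2.euler k C.left HC : ℚ) ≠ 0 := by
    exact_mod_cast AVIndex.euler_ne_zero hHC.1 ((conc_of_isAmple hHC).finite hHC.1)
  have hWne : ΨW ≠ 0 := fun h => hW0 (by rw [h, Polynomial.eval_zero])
  have hCne : Polynomial.C (Curv2.euler k C.left HC : ℚ) * Polynomial.X ^ d ≠ 0 :=
    mul_ne_zero (Polynomial.C_ne_zero.2 hcC) (pow_ne_zero _ Polynomial.X_ne_zero)
  have h := rootMultiplicity_indep hLB hHB hgB hΦB hH' hΦ'
  rw [Polynomial.rootMultiplicity_mul (mul_ne_zero (Polynomial.C_ne_zero.2 (by exact_mod_cast hm.ne'))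
      (ne_zero hL hH hg hΦ)), Polynomial.rootMultiplicity_C, Nat.zero_add,
    show Φ' = ΨC * ΨW from rfl, hCeq, Polynomial.rootMultiplicity_mul (mul_ne_zero hCne hWne),
    Polynomial.rootMultiplicity_mul hCne, Polynomial.rootMultiplicity_C, Nat.zero_add,
    Polynomial.rootMultiplicity_eq_zero (p := ΨW) hW0, Nat.add_zero,
    show (Polynomial.X : Polynomial ℚ) ^ d = (Polynomial.X - Polynomial.C 0) ^ d by rw [map_zero, sub_zero],
    Polynomial.rootMultiplicity_X_sub_C_pow] at h
  exact h.symm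

end Groth.Agent.AVRoots
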