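import Groth.Agent.AVRoots.Growth
import Groth.Agent.AVIndex.Orth
import Groth.Agent.AVEuler.Homog
import Groth.Agent.AVEuler.AmpleVanishing
import Groth.Agent.AmpleX.Generated

/-!
# The index of `L ⊗ H^t` for rational `t`
-/

noncomputable section

set_option autoImplicit false
set_option linter.style.haveILetI false
set_option linter.unusedSectionVars false
set_option backward.isDefEq.respectTransparency false
set_option backward.isDefEq.respectTransparency.types false
set_option maxHeartbeats 1000000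

universe u

open CategoryTheory CategoryTheory.Limits MonoidalCategory CartesianMonoidalCategory MonObj AlgebraicGeometry TopologicalSpace

namespace Groth.Agent.AVRoots

open Groth.Agent Groth.Agent.H23 Groth.Agent.VolLib
open scoped Groth.Agent.H23.PicMul

variable {k : Type u} [Field k] [IsAlgClosed k] {A : Over (Spec (CommRingCat.of k))} [GrpObj A] [IsProper A.hom]
  [GeometricallyIntegral A.hom] {L H : A.left.Modules}

/-- Cohomology in one degree, non-zero there. -/
def Conc (M : A.left.Modules) (i : ℕ) : Prop :=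
  (∀ j, j ≠ i → Subsingleton (Coh.HH A.left M j)) ∧ Nontrivial (Coh.HH A.left M i)

theorem Conc.unique {M : A.left.Modules} {i i' : ℕ} (h : Conc M i) (h' : Conc M i') : i = i' :=
  not_not.1 fun hne => not_subsingleton_iff_nontrivial.2 h.2 (h'.1 i hne)

theorem Conc.of_cl {M M' : A.left.Modules} {i : ℕ} (h : PicF.cl M = PicF.cl M') (hM : Conc M i) : Conc M' i := by
  letI : A.left.Over (Spec (CommRingCat.of k)) := ⟨A.hom⟩
  haveI : IsProper (A.left ↘ Spec (CommRingCat.of k)) := ‹IsProper A.hom›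
  obtain ⟨e⟩ := PicMul.cl_eq_iff.1 h
  exact ⟨fun j hj => AVIndex.subsingleton_HH_congr k e j (hM.1 j hj), AVIndex.nontrivial_HH_congr k e i hM.2⟩

theorem Conc.finite {M : A.left.Modules} (hMi : PicF.IsInvertible M) {i : ℕ} (h : Conc M i) :
    (AVIndex.fixSet₀ M).Finite :=
  AVIndex.finite_fixSet_of_concentrated hMi h.1 h.2

/-- A module with non-zero Euler characteristic is concentrated. -/
theorem exists_conc {M : A.left.Modules} (hM : PicF.IsInvertible M) {g : ℕ} (hg : topologicalKrullDim A.left = g)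
    (he : @Curv2.euler k _ A.left ⟨A.hom⟩ M ≠ 0) : ∃ i, i ≤ g ∧ Conc M i := by
  have hfin : (AVIndex.fixSet₀ M).Finite := by
    by_contra h
    exact he (AVTheta8.euler_eq_zero_of_degenerate hM (Set.Infinite.mono (fun x hx => PicMul.cl_eq_iff.1 hx) h))
  obtain ⟨D, hD, ⟨e⟩⟩ := H23.PicInv.exists_inverse hM
  have hMD : PicF.cl M * PicF.cl D = 1 := by
    rw [← PicMul.cl_tensor, PicMul.one_def]; exact PicMul.cl_eq_iff.2 ⟨e⟩
  obtain ⟨i, hi, h1, h2, -, -⟩ := AVIndex.exists_index hM hMD hfin hg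
  exact ⟨i, hi, h1, h2⟩

/-- The dimension of the non-zero cohomology is the absolute Euler characteristic. -/
theorem Conc.finrank_eq {M : A.left.Modules} {i : ℕ} (h : Conc M i) :
    letI : A.left.Over (Spec (CommRingCat.of k)) := ⟨A.hom⟩
    (Module.finrank k (Coh.HH A.left M i) : ℤ) = |Curv2.euler k A.left M| := by
  letI : A.left.Over (Spec (CommRingCat.of k)) := ⟨A.hom⟩
  haveI : IsProper (A.left ↘ Spec (CommRingCat.of k)) := ‹IsProper A.hom›
  rw [Euler.euler_eq_sum k M (i + 1) (fun j hj => h.1 j (by omega)),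
    Finset.sum_eq_single i (fun j _ hj => by
      haveI := h.1 j hj
      rw [Module.finrank_zero_of_subsingleton, Nat.cast_zero, mul_zero])
    (fun h => absurd (Finset.self_mem_range_succ i) h)]
  rw [abs_mul, abs_pow, abs_neg, abs_one, one_pow, _root_.one_mul, Nat.abs_cast]

/-- Ample modules have index zero. -/
theorem conc_of_isAmple {M : A.left.Modules} (hM : CohB1.IsAmple M) : Conc M 0 :=
  ⟨fun j hj => by
    obtain ⟨q, rfl⟩ : ∃ q, j = q + 1 := ⟨j - 1, by omega⟩
    exact AVEuler.subsingleton_HH_ample hM q, AVEuler.nontrivial_HH_zero_ample hM⟩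

/-- A chosen inverse. -/
def invMod {M : A.left.Modules} (hM : PicF.IsInvertible M) : A.left.Modules :=
  (H23.PicInv.exists_inverse hM).choose

theorem isInverseOf_invMod {M : A.left.Modules} (hM : PicF.IsInvertible M) : ClSub.IsInverseOf M (invMod hM) :=
  (H23.PicInv.exists_inverse hM).choose_spec.2

variable (hL : PicF.IsInvertible L) (hH : CohB1.IsAmple H)

/-- The family `L^q ⊗ H^p`. -/
def fam : TwistFam A.left 2 :=
  zFam (L := ![L, H]) (M := ![invMod hL, invMod hH.1])
    (by intro j; fin_cases j <;> first | exact hL | exact hH.1)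
    (by intro j; fin_cases j <;> first | exact isInverseOf_invMod hL | exact isInverseOf_invMod hH.1)

/-- `L^q ⊗ H^p`. -/
abbrev P (q p : ℤ) : A.left.Modules := (fam hL hH).P ![q, p]

theorem cl_P (q p : ℤ) : PicF.cl (P hL hH q p) = ((ucl hL ^ q * ucl hH.1 ^ p : (PicF.Cl A.left)ˣ) : PicF.Cl A.left) := by
  show PicF.cl (W4c5asymptcohfn.ztwist A.left ![L, H] ![invMod hL, invMod hH.1] ![q, p]) = _
  rw [cl_ztwist (by intro j; fin_cases j <;> first | exact hL | exact hH.1)
    (by intro j; fin_cases j <;> first | exact isInverseOf_invMod hL | exact isInverseOf_invMod hH.1), Fin.prod_univ_two]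
  rfl

theorem isInvertible_P (q p : ℤ) : PicF.IsInvertible (P hL hH q p) := (fam hL hH).isInv _

theorem cl_P_mul (q p q' p' : ℤ) :
    PicF.cl (P hL hH q p) * PicF.cl (P hL hH q' p') = PicF.cl (P hL hH (q + q') (p + p')) := by
  rw [cl_P, cl_P, cl_P, ← Units.val_mul, zpow_add, zpow_add]
  congr 1
  exact _root_.mul_mul_mul_comm _ _ _ _

theorem cl_P_pow (q p : ℤ) (m : ℕ) : PicF.cl (P hL hH q p) ^ m = PicF.cl (P hL hH (m * q) (m * p)) := by
  rw [cl_P, cl_P, ← Units.val_pow_eq_pow_val, mul_pow, ← zpow_natCast, ← zpow_natCast (ucl hH.1 ^ p), ← zpow_mul,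
    ← zpow_mul, mul_comm q, mul_comm p]

theorem cl_P_one (n : ℕ) : PicF.cl (P hL hH 1 n) = PicF.cl (CohB1.tensorMod L (CohB1.tensorPow H n)) := by
  rw [cl_P, PicMul.cl_tensor, PicMul.cl_tensorPow, zpow_one, zpow_natCast, Units.val_mul, Units.val_pow_eq_pow_val,
    val_ucl, val_ucl]

variable {g : ℕ} (hg : topologicalKrullDim A.left = g) {Φ : Polynomial ℚ}
  (hΦ : ∀ n : ℕ, Φ.eval (n : ℚ) =
    (@Curv2.euler k _ A.left ⟨A.hom⟩ (CohB1.tensorMod L (CohB1.tensorPow H n)) : ℚ))

include hg in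
/-- The Euler characteristic of `L^a ⊗ H^b` is a polynomial of degree at most `g`. -/
theorem exists_eval_poly : ∃ Q : MvPolynomial (Fin 2) ℚ, Q.totalDegree ≤ g ∧ ∀ a b : ℤ,
    (@Curv2.euler k _ A.left ⟨A.hom⟩ (P hL hH a b) : ℚ) = MvPolynomial.eval ![(a : ℚ), (b : ℚ)] Q := by
  letI : A.left.Over (Spec (CommRingCat.of k)) := ⟨A.hom⟩
  haveI : IsProper (A.left ↘ Spec (CommRingCat.of k)) := ‹IsProper A.hom›
  haveI := CurveCohLib.isNoetherian_of_proper (k := k) (X := A.left)
  let Ls : Fin 2 → A.left.Modules := ![L, H]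
  let Ds : Fin 2 → A.left.Modules := ![invMod hL, invMod hH.1]
  have hLs : ∀ i, PicF.IsInvertible (Ls i) := by intro i; fin_cases i <;> first | exact hL | exact hH.1
  have hLD : ∀ i, PicF.cl (Ls i) * PicF.cl (Ds i) = 1 := by
    intro i
    rw [← PicMul.cl_tensor, PicMul.one_def]
    refine PicMul.cl_eq_iff.2 ?_
    fin_cases i <;> first | exact isInverseOf_invMod hL | exact isInverseOf_invMod hH.1
  have hDs : ∀ i, PicF.IsInvertible (Ds i) := fun i => AVIndex.isInvertible_inverse (hLs i) (hLD i)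
  obtain ⟨Q, hQd, hQ⟩ := AVDegPoly.exists_poly_int k hg.le Ls Ds hLs hDs hLD
  have hval : ∀ a b : ℤ, (Curv2.euler k A.left (P hL hH a b) : ℚ) = MvPolynomial.eval ![(a : ℚ), (b : ℚ)] Q := by
    intro a b
    let u : Fin 2 → ℕ := ![a.toNat, b.toNat]
    let w : Fin 2 → ℕ := ![(-a).toNat, (-b).toNat]
    obtain ⟨e⟩ := PicMul.cl_eq_iff.1 (show PicF.cl (P hL hH a b) =
        PicF.cl (Curv2.tensorPows (Coh.structureModule A.left) (2 + 2) (Fin.append Ls Ds) (Fin.append u w)) by
      rw [AVDegPoly.cl_tensorPows, Fin.prod_univ_add, show PicF.cl (Coh.structureModule A.left) = 1 from rfl,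
        _root_.one_mul]
      simp only [Fin.append_left, Fin.append_right, Fin.prod_univ_two]
      have hd : ∀ i, PicF.cl (Ds i) = (((ucl (hLs i))⁻¹ : (PicF.Cl A.left)ˣ) : PicF.Cl A.left) := fun i =>
        (Units.inv_eq_of_mul_eq_one_right (by rw [val_ucl]; exact hLD i)).symm
      have hl : ∀ i, PicF.cl (Ls i) = ((ucl (hLs i) : (PicF.Cl A.left)ˣ) : PicF.Cl A.left) := fun i =>
        (val_ucl (hLs i)).symm
      simp only [hd, hl, ← Units.val_pow_eq_pow_val, ← Units.val_mul]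
      rw [cl_P]
      congr 1
      simp only [u, w, Matrix.cons_val_zero, Matrix.cons_val_one, ← zpow_natCast, inv_zpow']
      rw [_root_.mul_mul_mul_comm, ← zpow_add, ← zpow_add]
      congr 2 <;> omega)
    rw [CurveCohLib.euler_congr (k := k) e]
    refine (hQ u w).trans ?_
    congr 2
    funext i
    fin_cases i <;> simp [u, w] <;> exact_mod_cast Int.toNat_sub_toNat_neg _
  exact ⟨Q, hQd, hval⟩

include hL hH hg hΦ in
theorem natDegree_le : Φ.natDegree ≤ g := by
  letI : A.left.Over (Spec (CommRingCat.of k)) := ⟨A.hom⟩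
  haveI : IsProper (A.left ↘ Spec (CommRingCat.of k)) := ‹IsProper A.hom›
  obtain ⟨Q, hQd, hval⟩ := exists_eval_poly hL hH hg
  rw [show Φ = MvPolynomial.aeval ![1, Polynomial.X] Q from ?_]
  · exact AVEuler.natDegree_aeval_le Q hQd _ fun i => by fin_cases i <;> simp
  refine Polynomial.eq_of_infinite_eval_eq _ _ ((Set.infinite_range_of_injective
    (f := fun j : ℕ => (j : ℚ)) fun a b hab => Nat.cast_injective hab).mono ?_)
  rintro _ ⟨n, rfl⟩
  show Φ.eval (n : ℚ) = Polynomial.eval (n : ℚ) _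
  rw [AVEuler.eval_aeval_poly, hΦ, ← CurveCohLib.euler_congr (k := k) (PicMul.cl_eq_iff.1 (cl_P_one hL hH n)).some,
    hval]
  congr 2
  funext i
  fin_cases i <;> simp

include hg hΦ in
/-- The Hilbert polynomial computes the Euler characteristic of all `L^q ⊗ H^p`. -/
theorem euler_P {q : ℕ} (hq : 0 < q) (p : ℤ) :
    (@Curv2.euler k _ A.left ⟨A.hom⟩ (P hL hH (q : ℤ) p) : ℚ) = (q : ℚ) ^ g * Φ.eval ((p : ℚ) / q) := by
  letI : A.left.Over (Spec (CommRingCat.of k)) := ⟨A.hom⟩
  haveI : IsProper (A.left ↘ Spec (CommRingCat.of k)) := ‹IsProper A.hom›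
  haveI := CurveCohLib.isNoetherian_of_proper (k := k) (X := A.left)
  obtain ⟨Q, -, hval⟩ := exists_eval_poly hL hH hg
  have hhom : ∀ (m : ℕ) (a b : ℤ), MvPolynomial.eval ![((m * a : ℤ) : ℚ), ((m * b : ℤ) : ℚ)] Q =
      (m : ℚ) ^ g * MvPolynomial.eval ![(a : ℚ), (b : ℚ)] Q := fun m a b => by
    obtain ⟨D, hD, ⟨e⟩⟩ := H23.PicInv.exists_inverse (isInvertible_P hL hH a b)
    have h := AVEuler.euler_homogeneous hg (isInvertible_P hL hH a b) hD
      (by rw [← PicMul.cl_tensor, PicMul.one_def]; exact PicMul.cl_eq_iff.2 ⟨e⟩) m 0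
    rw [CurveCohLib.euler_congr (k := k) (PicMul.cl_eq_iff.1 (show
      PicF.cl (CohB1.tensorMod (CohB1.tensorPow (P hL hH a b) m) (CohB1.tensorPow D 0)) =
        PicF.cl (P hL hH (m * a) (m * b)) by
      rw [PicMul.cl_tensor, PicMul.cl_tensorPow, PicMul.cl_tensorPow D, pow_zero, _root_.mul_one, cl_P_pow])).some,
      hval, hval, Nat.cast_zero, sub_zero] at h
    exact h
  let R : Polynomial ℚ := MvPolynomial.aeval ![Polynomial.C (q : ℚ) * Polynomial.X, Polynomial.C (p : ℚ) * Polynomial.X] Q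
  let S : Polynomial ℚ := MvPolynomial.aeval ![1, Polynomial.X] Q
  have hR : R = Polynomial.C (MvPolynomial.eval ![(q : ℚ), (p : ℚ)] Q) * Polynomial.X ^ g := by
    refine Polynomial.eq_of_infinite_eval_eq _ _ ((Set.infinite_range_of_injective
      (f := fun j : ℕ => (j : ℚ)) fun a b hab => Nat.cast_injective hab).mono ?_)
    rintro _ ⟨m, rfl⟩
    show R.eval (m : ℚ) = _
    have h := hhom m (q : ℤ) p
    rw [AVEuler.eval_aeval_poly, Polynomial.eval_mul, Polynomial.eval_C, Polynomial.eval_pow, Polynomial.eval_X,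
      _root_.mul_comm]
    push_cast at h ⊢
    refine Eq.trans ?_ (h.trans (_root_.mul_comm _ _))
    congr 2
    funext i
    fin_cases i <;> simp <;> ring
  have hS : S = Φ := by
    refine Polynomial.eq_of_infinite_eval_eq _ _ ((Set.infinite_range_of_injective
      (f := fun j : ℕ => (j : ℚ)) fun a b hab => Nat.cast_injective hab).mono ?_)
    rintro _ ⟨n, rfl⟩
    show S.eval (n : ℚ) = Φ.eval (n : ℚ)
    rw [AVEuler.eval_aeval_poly, hΦ, ← CurveCohLib.euler_congr (k := k) (PicMul.cl_eq_iff.1 (cl_P_one hL hH n)).some,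
      hval]
    congr 2
    funext i
    fin_cases i <;> simp
  have hq0 : (q : ℚ) ≠ 0 := by exact_mod_cast hq.ne'
  have h1 := congrArg (Polynomial.eval (q : ℚ)⁻¹) hR
  rw [AVEuler.eval_aeval_poly, Polynomial.eval_mul, Polynomial.eval_C, Polynomial.eval_pow, Polynomial.eval_X] at h1
  rw [hval, ← hS, AVEuler.eval_aeval_poly]
  have h2 : MvPolynomial.eval (fun i => ((![1, Polynomial.X] : Fin 2 → Polynomial ℚ) i).eval ((p : ℚ) / q)) Q =
      MvPolynomial.eval (fun i => ((![Polynomial.C (q : ℚ) * Polynomial.X, Polynomial.C (p : ℚ) * Polynomial.X] :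
        Fin 2 → Polynomial ℚ) i).eval (q : ℚ)⁻¹) Q := by
    congr 2
    funext i
    fin_cases i <;> simp [hq0, div_eq_mul_inv]
  rw [h2, h1, inv_pow, Int.cast_natCast]
  field_simp

/-- The index of `L ⊗ H^x` for rational `x` (zero if there is none). -/
def idx (x : ℚ) : ℕ := by
  classical
  exact if h : ∃ i, Conc (P hL hH (x.den : ℤ) x.num) i then h.choose else 0

include hg hΦ in
theorem euler_P_ne_zero {q : ℕ} (hq : 0 < q) {p : ℤ} (hx : Φ.eval ((p : ℚ) / q) ≠ 0) :
    @Curv2.euler k _ A.left ⟨A.hom⟩ (P hL hH (q : ℤ) p) ≠ 0 := fun h => by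
  have h1 := euler_P hL hH hg hΦ hq p
  rw [h, Int.cast_zero, eq_comm, mul_eq_zero] at h1
  exact hx (h1.resolve_left (pow_ne_zero _ (by exact_mod_cast hq.ne')))

include hg hΦ in
theorem conc_idx {x : ℚ} (hx : Φ.eval x ≠ 0) {q : ℕ} (hq : 0 < q) {p : ℤ} (hpq : (p : ℚ) / q = x) :
    Conc (P hL hH (q : ℤ) p) (idx hL hH x) ∧ idx hL hH x ≤ g := by
  classical
  obtain ⟨i, hi, hc⟩ := exists_conc (isInvertible_P hL hH x.den x.num) hg
    (euler_P_ne_zero hL hH hg hΦ x.den_pos (p := x.num) (by rwa [Rat.num_div_den]))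
  have hidx : idx hL hH x = i := by
    rw [idx, dif_pos ⟨i, hc⟩]
    exact Conc.unique (Exists.choose_spec (⟨i, hc⟩ : ∃ i, Conc (P hL hH (x.den : ℤ) x.num) i)) hc
  rw [hidx]
  refine ⟨?_, hi⟩
  obtain ⟨m, hm⟩ : ∃ m : ℕ, q = x.den * m := by
    have h := Rat.den_dvd p q
    rw [Rat.divInt_eq_div, show ((p : ℚ) / ((q : ℤ) : ℚ)) = x by rw [Int.cast_natCast, hpq]] at h
    exact Int.natCast_dvd_natCast.1 h
  have hm0 : 0 < m := Nat.pos_of_ne_zero fun h => by simp [h] at hm; omega
  have hp : p = m * x.num := by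
    have h1 : (p : ℚ) = x * q := by rw [← hpq, div_mul_cancel₀ _ (by exact_mod_cast hq.ne')]
    have h2 : (x.num : ℚ) = x * x.den := (Rat.mul_den_eq_num x).symm
    have : (p : ℚ) = ((m * x.num : ℤ) : ℚ) := by rw [h1, hm]; push_cast; rw [h2]; ring
    exact_mod_cast this
  have hc' : Conc (CohB1.tensorPow (P hL hH (x.den : ℤ) x.num) m) i :=
    AVIndex.concentrated_tensorPow (isInvertible_P hL hH _ _) hc.1 hc.2 m hm0
  refine hc'.of_cl ?_
  rw [PicMul.cl_tensorPow, cl_P_pow, hp, hm]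
  push_cast
  rw [_root_.mul_comm (m : ℤ) (x.den : ℤ)]

include hg hΦ in
/-- The index does not increase. -/
theorem idx_anti {x y : ℚ} (hx : Φ.eval x ≠ 0) (hy : Φ.eval y ≠ 0) (hxy : x ≤ y) :
    idx hL hH y ≤ idx hL hH x := by
  rcases hxy.eq_or_lt with rfl | hlt
  · rfl
  let q := x.den * y.den
  have hq : 0 < q := Nat.mul_pos x.den_pos y.den_pos
  have hqx : ((x.num * y.den : ℤ) : ℚ) / (q : ℕ) = x := by
    conv_rhs => rw [← Rat.num_div_den x]
    simp only [q]; push_cast; field_simp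
  have hqy : ((y.num * x.den : ℤ) : ℚ) / (q : ℕ) = y := by
    conv_rhs => rw [← Rat.num_div_den y]
    simp only [q]; push_cast; field_simp
  obtain ⟨s, hs⟩ : ∃ s : ℕ, y.num * x.den = x.num * y.den + (s + 1 : ℕ) := by
    have h : x.num * y.den < y.num * x.den := by
      have h : ((x.num * y.den : ℤ) : ℚ) / (q : ℕ) < ((y.num * x.den : ℤ) : ℚ) / (q : ℕ) := by
        rw [hqx, hqy]; exact hlt
      rw [div_lt_div_iff_of_pos_right (by exact_mod_cast hq)] at h
      exact_mod_cast h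
    exact ⟨(y.num * x.den - x.num * y.den - 1).toNat, by omega⟩
  obtain ⟨h1, -⟩ := conc_idx hL hH hg hΦ hx hq hqx
  obtain ⟨h2, -⟩ := conc_idx hL hH hg hΦ hy hq hqy
  have hs' : CohB1.IsAmple (CohB1.tensorPow H (s + 1)) := AmpleX.isAmple_tensorPow hH s.succ_pos
  have h3 := conc_of_isAmple hs'
  have hcl : PicF.cl (P hL hH (q : ℤ) (y.num * x.den)) =
      PicF.cl (P hL hH (q : ℤ) (x.num * y.den)) * PicF.cl (CohB1.tensorPow H (s + 1)) := by
    rw [hs, cl_P, cl_P, PicMul.cl_tensorPow, ← val_ucl hH.1, ← Units.val_pow_eq_pow_val, ← Units.val_mul, zpow_add]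
    simp only [zpow_natCast, _root_.mul_assoc]
  exact AVIndex.index_le_add (isInvertible_P hL hH _ _) hs'.1 (isInvertible_P hL hH _ _) hcl
    (h1.finite (isInvertible_P hL hH _ _)) (h3.finite hs'.1) (h2.finite (isInvertible_P hL hH _ _))
    h1.1 h1.2 h3.1 h3.2 h2.1 h2.2

end Groth.Agent.AVRoots
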