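import Groth.Agent.AVRoots.Main
import Groth.Agent.AVIndex.Field
import Groth.Agent.NormX.NormalAmple

/-!
# The roots of the Hilbert polynomial over any field
-/

noncomputable section

set_option autoImplicit false
set_option linter.style.haveILetI false
set_option linter.unusedSectionVars false
set_option backward.isDefEq.respectTransparency false
set_option backward.isDefEq.respectTransparency.types false
set_option maxHeartbeats 1000000

universe u

open CategoryTheory CategoryTheory.Limits AlgebraicGeometry TopologicalSpace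

namespace Groth.Agent.AVRoots

open Groth.Agent Groth.Agent.H23 Groth.Agent.AVDualCx
open scoped Groth.Agent.H23.PicMul

variable {k : Type u} [Field k] {X : Over (Spec (CommRingCat.of k))} [GrpObj X] [IsProper X.hom]
  [GeometricallyIntegral X.hom] {L H : X.left.Modules} (hL : PicF.IsInvertible L) (hH : CohB1.IsAmple H)
  {Φ : Polynomial ℚ}
  (hΦ : ∀ n : ℕ, Φ.eval (n : ℚ) =
    (@Curv2.euler k _ X.left ⟨X.hom⟩ (CohB1.tensorMod L (CohB1.tensorPow H n)) : ℚ))

local notation "π" => prj (AVIndex.clMap k) X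

theorem conc_bar {M : X.left.Modules} (hM : PicF.IsInvertible M) {i : ℕ}
    (hv : ∀ j, j ≠ i → Subsingleton (Coh.HH X.left M j)) (hn : Nontrivial (Coh.HH X.left M i)) :
    (∀ j, j ≠ i → Subsingleton (Coh.HH _ ((Scheme.Modules.pullback π).obj M) j)) ∧
      Nontrivial (Coh.HH _ ((Scheme.Modules.pullback π).obj M) i) :=
  ⟨fun j hj => (AVIndex.subsingleton_HH_bar_iff hM j).2 (hv j hj),
    not_subsingleton_iff_nontrivial.1 fun he =>
      not_subsingleton_iff_nontrivial.2 hn ((AVIndex.subsingleton_HH_bar_iff hM i).1 he)⟩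

/-- The Euler characteristic does not change under base change to the closure. -/
theorem euler_bar {M : X.left.Modules} (hM : PicF.IsInvertible M) :
    @Curv2.euler (AlgebraicClosure k) _ (Red.bc (AVIndex.clMap k) X).left ⟨(Red.bc (AVIndex.clMap k) X).hom⟩
        ((Scheme.Modules.pullback π).obj M) = @Curv2.euler k _ X.left ⟨X.hom⟩ M := by
  let K := AlgebraicClosure k
  let B : Over (Spec (CommRingCat.of K)) := Red.bc (AVIndex.clMap k) X
  have sq : IsPullback π B.hom X.hom (AVIndex.clMap k) := IsPullback.of_hasPullback _ _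
  letI : X.left.Over (Spec (CommRingCat.of k)) := ⟨X.hom⟩
  letI : B.left.Over (Spec (CommRingCat.of K)) := ⟨B.hom⟩
  haveI : IsProper (X.left ↘ Spec (CommRingCat.of k)) := ‹IsProper X.hom›
  haveI := CurveCohLib.isNoetherian_of_proper (k := k) (X := X.left)
  exact finsum_congr fun j => congrArg (fun n : ℕ => (-1 : ℤ) ^ j * (n : ℤ))
    (CurveBC.finrank_hh k K π sq M (AmpleVan.isCoh_invertible hM).1 j)

include hL hH hΦ in
theorem bar_data : ∃ g : ℕ, topologicalKrullDim (Red.bc (AVIndex.clMap k) X).left = g ∧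
    CohB1.IsAmple ((Scheme.Modules.pullback π).obj H) ∧
    ∀ n : ℕ, Φ.eval (n : ℚ) =
      (@Curv2.euler (AlgebraicClosure k) _ (Red.bc (AVIndex.clMap k) X).left ⟨(Red.bc (AVIndex.clMap k) X).hom⟩
        (CohB1.tensorMod ((Scheme.Modules.pullback π).obj L)
          (CohB1.tensorPow ((Scheme.Modules.pullback π).obj H) n)) : ℚ) := by
  haveI : IsProper (Red.bc (AVIndex.clMap k) X).hom := (BcComp.isAV_bc (AVIndex.clMap k) X).1
  letI : (Red.bc (AVIndex.clMap k) X).left.Over (Spec (CommRingCat.of (AlgebraicClosure k))) :=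
    ⟨(Red.bc (AVIndex.clMap k) X).hom⟩
  haveI : IsProper ((Red.bc (AVIndex.clMap k) X).left ↘ Spec (CommRingCat.of (AlgebraicClosure k))) :=
    ‹IsProper (Red.bc (AVIndex.clMap k) X).hom›
  haveI : IsAffineHom (AVIndex.clMap k) := inferInstance
  haveI : IsAffineHom π := MorphismProperty.pullback_fst (P := @IsAffineHom) X.hom (AVIndex.clMap k) inferInstance
  haveI : GeometricallyIntegral (Red.bc (AVIndex.clMap k) X).hom := (BcComp.isAV_bc (AVIndex.clMap k) X).2
  haveI : IsIntegral X.left := GeometricallyIntegral.isIntegral_of_subsingleton X.hom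
  obtain ⟨g, hg⟩ : ∃ g : ℕ, topologicalKrullDim X.left = g :=
    ⟨_, VarDim.topologicalKrullDim_eq_deg_genericPoint X.hom⟩
  refine ⟨g, AVIndex.dim_bar hg, NormX.isAmple_pullback_affine π hH, fun n => ?_⟩
  rw [hΦ, ← euler_bar (PicMul.isInvertible_tensor hL (PicMul.isInvertible_tensorPow hH.1 n)),
    CurveCohLib.euler_congr (k := AlgebraicClosure k) (PicMul.cl_eq_iff.1 (show
      PicF.cl ((Scheme.Modules.pullback π).obj (CohB1.tensorMod L (CohB1.tensorPow H n))) =
        PicF.cl (CohB1.tensorMod ((Scheme.Modules.pullback π).obj L)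
          (CohB1.tensorPow ((Scheme.Modules.pullback π).obj H) n)) by
      show PicF.pullCl π (PicF.cl _) = _
      rw [PicMul.cl_tensor, PicMul.cl_tensor, PicMul.cl_tensorPow, PicMul.cl_tensorPow, PicMul.pullCl_mul,
        PicMul.pullCl_pow]
      rfl)).some]

include hL hH hΦ in
theorem card_roots_and_index' {i : ℕ} (hv : ∀ j, j ≠ i → Subsingleton (Coh.HH X.left L j))
    (hn : Nontrivial (Coh.HH X.left L i)) :
    Multiset.card (rPoly Φ).roots = Φ.natDegree ∧
      i = Multiset.card ((rPoly Φ).roots.filter fun t => 0 < t) := by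
  haveI : IsProper (Red.bc (AVIndex.clMap k) X).hom := (BcComp.isAV_bc (AVIndex.clMap k) X).1
  haveI : GeometricallyIntegral (Red.bc (AVIndex.clMap k) X).hom := (BcComp.isAV_bc (AVIndex.clMap k) X).2
  obtain ⟨g, hg, hH', hΦ'⟩ := bar_data hL hH hΦ
  exact card_roots_and_index (PicClLib.isInvertible_pullback _ hL) hH' hg hΦ' (conc_bar hL hv hn)

include hL hH hΦ in
theorem index_le_add_nRoots' {M : X.left.Modules} (hM : Nonempty (M ≅ CohB1.tensorMod L H)) {i i' : ℕ}
    (hv : ∀ j, j ≠ i → Subsingleton (Coh.HH X.left L j)) (hn : Nontrivial (Coh.HH X.left L i))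
    (hv' : ∀ j, j ≠ i' → Subsingleton (Coh.HH X.left M j)) (hn' : Nontrivial (Coh.HH X.left M i')) :
    i' ≤ i ∧ i ≤ i' + nRoots Φ 0 1 := by
  haveI : IsProper (Red.bc (AVIndex.clMap k) X).hom := (BcComp.isAV_bc (AVIndex.clMap k) X).1
  haveI : GeometricallyIntegral (Red.bc (AVIndex.clMap k) X).hom := (BcComp.isAV_bc (AVIndex.clMap k) X).2
  obtain ⟨g, hg, hH', hΦ'⟩ := bar_data hL hH hΦ
  have hMi : PicF.IsInvertible M := PicMul.isInvertible_of_iso hM.some.symm (PicMul.isInvertible_tensor hL hH.1)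
  refine index_le_add_nRoots (PicClLib.isInvertible_pullback _ hL) hH' hg hΦ' ?_
    (conc_bar hL hv hn) (conc_bar hMi hv' hn')
  show PicF.pullCl π (PicF.cl M) = _
  rw [PicMul.cl_eq_iff.2 hM, PicMul.cl_tensor, PicMul.cl_tensor, PicMul.pullCl_mul]
  rfl

end Groth.Agent.AVRoots
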