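import Groth.Agent.AVRoots.Tower
import Groth.Agent.AmpleVan.Vanish

/-!
# The growth of cohomology above a gap
-/

noncomputable section

set_option autoImplicit false
set_option linter.style.haveILetI false
set_option linter.unusedSectionVars false
set_option backward.isDefEq.respectTransparency false
set_option backward.isDefEq.respectTransparency.types false
set_option maxHeartbeats 1000000

universe u

open CategoryTheory CategoryTheory.Limits AlgebraicGeometry TopologicalSpace
open Groth.Agent.H23.PicMul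

namespace Groth.Agent.AVRoots

open Groth.Agent.VolLib
open AmpleVan (itw pw mulSec tw)

variable (k : Type u) [Field k] {X : Scheme.{u}} [X.Over (Spec (CommRingCat.of k))]
  [IsProper (X ↘ Spec (CommRingCat.of k))] {s : ℕ} (T : TwistFam X s) {B : X.Modules} (hB : PicF.IsInvertible B)
  (v : Fin s → ℤ) (hv : ∀ a (e : ℕ), PicF.cl B ^ e * PicF.cl (T.P a) = PicF.cl (T.P (a + (e : ℤ) • v)))

include k hB in
theorem isCoh_itw {M : X.Modules} (hM : Coh.IsCoh M) : ∀ n, Coh.IsCoh ((itw B n).obj M)
  | 0 => hM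
  | n + 1 =>
    haveI := CurveCohLib.isNoetherian_of_proper (k := k) (X := X)
    isCoh_tw hB (isCoh_itw hM n)

include k hB in
theorem isCoh_G : ∀ (l : List Γ(B, ⊤)) (N : ℕ) {M : X.Modules}, Coh.IsCoh M → Coh.IsCoh ((G l N).obj M)
  | [], _, _, hM => hM
  | σ :: l, N, M, hM => isCoh_G l N
    (haveI := CurveCohLib.isNoetherian_of_proper (k := k) (X := X)
     QCoh.isCoh_cokernel hM.1 (isCoh_itw k hB hM N) _)

theorem gseq_iso {M M' : X.Modules} (e : M ≅ M') (i : ℕ) (a : Fin s → ℤ) : gseq k T M i a = gseq k T M' i a :=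
  HilbPoly.finrank_HH_iso k ((AmpleVan.tw (T.P a)).mapIso e) i

include hB hv in
theorem gseq_itw (M : X.Modules) (e i : ℕ) (a : Fin s → ℤ) :
    gseq k T ((itw B e).obj M) i a = gseq k T M i (a + (e : ℤ) • v) := by
  obtain ⟨θ, -⟩ := AmpleVan.exists_itwIso B M e
  obtain ⟨c⟩ := cl_eq_iff.1 (show PicF.cl (CohB1.tensorMod (CohB1.tensorPow B e) (T.P a)) =
    PicF.cl (T.P (a + (e : ℤ) • v)) by rw [cl_tensor, cl_tensorPow, hv])
  exact HilbPoly.finrank_HH_iso k ((AmpleVan.tw (T.P a)).mapIso θ ≪≫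
    AmpleVan.assocT M (CohB1.tensorPow B e) (T.P a) ≪≫ PicGrp.tensorModIso (Iso.refl M) c) i

theorem gseq_isZero {M : X.Modules} (hM : IsZero M) (i : ℕ) (a : Fin s → ℤ) : gseq k T M i a = 0 := by
  haveI := AmpleVan.isEquivalence_tw (T.isInv a)
  haveI : (AmpleVan.tw (T.P a)).Additive := Functor.additive_of_preserves_binary_products _
  haveI : Subsingleton (Coh.HH X (CohB1.tensorMod M (T.P a)) i) :=
    Euler.subsingleton_HH_of_isZero ((AmpleVan.tw (T.P a)).map_isZero hM) i
  exact Module.finrank_zero_of_subsingleton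

theorem sz_add {r : ℕ} (a b : Fin r → ℤ) : sz (a + b) ≤ sz a + sz b := Finset.sup_le fun j _ =>
  (Int.natAbs_add_le _ _).trans (add_le_add (natAbs_le_sz a j) (natAbs_le_sz b j))

include hv in
/-- The tower of a regular sequence in general position has small cohomology. -/
theorem exists_tower [Infinite k] (hgen : Gen B) (r : ℕ) : ∀ (F : X.Modules), Coh.IsCoh F → ∀ d : ℕ,
    topologicalKrullDim ↥(CohB1.support F) < (d : WithBot ℕ∞) → PicF.IsInvertible B →
      ∃ l : List Γ(B, ⊤), l.length = r ∧ Reg l F ∧ ∃ C : ℕ, ∀ (N e : ℕ) (a : Fin s → ℤ) (j : ℕ),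
        gseq k T ((G l N).obj ((itw B e).obj F)) j a ≤ C * N ^ r * pT (d - r) (sz a + (e + r * N) * sz v + 1) := by
  haveI := CurveCohLib.isNoetherian_of_proper (k := k) (X := X)
  induction r with
  | zero =>
    intro F hF d hd hB
    refine ⟨[], rfl, trivial, ?_⟩
    choose Cs hCs using gd_of_dim_lt k T d ⟨_, QCoh.isClosed_support_of_isFT hF.1 hF.2⟩ hd F hF le_rfl
    let g := fun j : ℕ => Cs j
    obtain ⟨D, hD⟩ : ∃ D : ℕ, ∀ j, D ≤ j → ∀ a, gseq k T F j a = 0 := by
      obtain ⟨D, hD⟩ := Euler.exists_bound k (X := X)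
      exact ⟨D, fun j hj a => by
        haveI := hD (CohB1.tensorMod F (T.P a)) (AmpleVan.isCoh_tensor hF (AmpleVan.isCoh_invertible (T.isInv a))).1 j hj
        exact Module.finrank_zero_of_subsingleton⟩
    refine ⟨(Finset.range D).sup g, fun N e a j => ?_⟩
    show gseq k T ((itw B e).obj F) j a ≤ _
    rw [gseq_itw k T hB v hv, pow_zero, _root_.mul_one, Nat.sub_zero, Nat.zero_mul, Nat.add_zero]
    rcases Nat.lt_or_ge j D with hj | hj
    · refine (hCs j _).trans (Nat.mul_le_mul (Finset.le_sup (f := g) (Finset.mem_range.2 hj)) (pT_mono d ?_))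
      exact Nat.add_le_add_right ((sz_add _ _).trans (Nat.add_le_add_left (sz_smul e v) _)) 1
    · simp [hD j hj]
  | succ r ih =>
    intro F hF d hd hB
    obtain ⟨s', hs'⟩ := exists_regSec (k := k) hB hgen hF
    let σ := InvX.one s'
    haveI h1 : Mono (mulSec σ F) := mono_of_regSec hF.1 hs'
    have hBF : Coh.IsCoh ((AmpleVan.tw B).obj F) := isCoh_tw hB hF
    obtain ⟨l, hl, hreg, C, hC⟩ := ih (cokernel (mulSec σ F)) (QCoh.isCoh_cokernel hF.1 hBF _) (d - 1)
      (dim_lt_of_regSec k hB hF hs' hd) hB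
    have hR : Reg (σ :: l) F := ⟨h1, hreg⟩
    refine ⟨σ :: l, by simp [hl], hR, C, fun N e a j => ?_⟩
    have hRe : Reg (σ :: l) ((itw B e).obj F) := hR.itwist hB e
    have hm : ∀ n, Mono (mulSec σ ((itw B n).obj ((itw B e).obj F))) := fun n => (hRe.itwist hB n).1
    have hpiece : ∀ n, n < N →
        gseq k T ((G l N).obj (cokernel (mulSec σ ((itw B n).obj ((itw B e).obj F))))) j a ≤
          C * N ^ r * pT (d - (r + 1)) (sz a + (e + (r + 1) * N) * sz v + 1) := by
      intro n hn
      obtain ⟨θ⟩ := itw_add (B := B) F e n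
      obtain ⟨c⟩ := cok_itw hB σ F (e + n)
      rw [gseq_iso k T ((G l N).mapIso (cokernel.mapIso _ _ θ ((tw B).mapIso θ)
        (AmpleVan.mulSec_naturality σ θ.hom).symm ≪≫ c.symm))]
      refine (hC N (e + n) a j).trans ?_
      rw [Nat.sub_sub, Nat.add_comm 1 r]
      refine Nat.mul_le_mul_left _ (pT_mono _ ?_)
      refine Nat.add_le_add_right (Nat.add_le_add_left (Nat.mul_le_mul_right _ ?_) _) 1
      rw [Nat.add_mul, Nat.one_mul]
      omega
    have key : ∀ n, n ≤ N →
        gseq k T ((G l N).obj (cokernel ((pw σ n).app ((itw B e).obj F)))) j a ≤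
          n * (C * N ^ r * pT (d - (r + 1)) (sz a + (e + (r + 1) * N) * sz v + 1)) := by
      intro n hn
      induction n with
      | zero =>
        rw [gseq_isZero k T (G_isZero l N hB (isZero_cok_zero hB σ _))]
        exact Nat.zero_le _
      | succ n ihn =>
        obtain ⟨-, f, g, hz, hS⟩ := pw_step hB σ hm n
        obtain ⟨hz', hS'⟩ := G_shortExact hB l N hS (hRe.cok hB n).2 (hRe.itwist hB n).2
        have hFe : Coh.IsCoh ((itw B e).obj F) := isCoh_itw k hB hF e
        have hc : ∀ m, Coh.IsCoh (cokernel ((pw σ m).app ((itw B e).obj F))) := fun m =>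
          QCoh.isCoh_cokernel hFe.1 (isCoh_itw k hB hFe m) _
        have := (gseq_ses (k := k) (T := T) hS' (isCoh_G k hB l N (hc n)) (isCoh_G k hB l N (hc (n + 1)))
          (isCoh_G k hB l N (QCoh.isCoh_cokernel (isCoh_itw k hB hFe n).1 (isCoh_tw hB (isCoh_itw k hB hFe n)) _))
          j a).1
        have h2 := ihn (by omega)
        have h3 := hpiece n hn
        rw [Nat.succ_mul]
        dsimp only at this
        omega
    refine (key N le_rfl).trans (le_of_eq ?_)
    rw [pow_succ]
    ring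

include hB hv in
/-- Descending the degree along the tower. -/
theorem gseq_le_tower : ∀ (l : List Γ(B, ⊤)) (F : X.Modules), Coh.IsCoh F → Reg l F → ∀ (N i : ℕ) (a : Fin s → ℤ),
    l.length ≤ i → (∀ t, 1 ≤ t → t ≤ l.length → ∀ j, i + 1 ≤ j + l.length → j ≤ i →
      gseq k T F j (a + ((t * N : ℕ) : ℤ) • v) = 0) →
      gseq k T F i a ≤ gseq k T ((G l N).obj F) (i - l.length) a
  | [], F, _, _, N, i, a, _, _ => le_rfl
  | σ :: l, F, hF, hR, N, i, a, hi, hz => by
    haveI := CurveCohLib.isNoetherian_of_proper (k := k) (X := X)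
    haveI := (hR.cok hB N).1
    let F' := cokernel ((pw σ N).app F)
    have hF' : Coh.IsCoh F' := QCoh.isCoh_cokernel hF.1 (isCoh_itw k hB hF N) _
    have hS : (ShortComplex.mk ((pw σ N).app F) (cokernel.π _) (cokernel.condition _)).ShortExact :=
      .mk' (ShortComplex.exact_of_g_is_cokernel _ (cokernelIsCokernel _)) ‹_› inferInstance
    have hses : ∀ b j, gseq k T F' j b ≤ gseq k T F j (b + (N : ℤ) • v) + gseq k T F (j + 1) b ∧
        gseq k T F j b ≤ gseq k T F j (b + (N : ℤ) • v) + gseq k T F' (j - 1) b := fun b j => by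
      have h := gseq_ses (k := k) (T := T) hS hF (isCoh_itw k hB hF N) hF' j b
      simp only [gseq_itw k T hB v hv] at h
      exact ⟨h.2.1, h.2.2⟩
    simp only [List.length_cons] at hi hz ⊢
    have hmain : gseq k T F i a ≤ gseq k T F' (i - 1) a := by
      have h := (hses a i).2
      rw [show gseq k T F i (a + (N : ℤ) • v) = 0 by
        simpa using hz 1 le_rfl (by omega) i (by omega) le_rfl] at h
      simpa using h
    refine hmain.trans ?_
    rw [show i - (l.length + 1) = i - 1 - l.length by omega]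
    refine gseq_le_tower l F' hF' (hR.cok hB N).2 N (i - 1) a (by omega) fun t ht ht' j hj hj' => ?_
    have h := (hses (a + ((t * N : ℕ) : ℤ) • v) j).1
    rw [show a + ((t * N : ℕ) : ℤ) • v + (N : ℤ) • v = a + (((t + 1) * N : ℕ) : ℤ) • v by
      rw [add_assoc, ← add_smul, Nat.succ_mul, Nat.cast_add]] at h
    rw [hz (t + 1) (by omega) (by omega) j (by omega) (by omega), hz t ht (by omega) (j + 1) (by omega) (by omega)] at h
    omega

include hB hv in
/-- **Growth above a gap.** -/
theorem exists_growth [Infinite k] (hgen : Gen B) {g : ℕ} (hg : topologicalKrullDim X ≤ (g : WithBot ℕ∞)) (r : ℕ) :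
    ∃ C : ℕ, ∀ (a : Fin s → ℤ) (N i : ℕ), r ≤ i → (∀ t, 1 ≤ t → t ≤ r → ∀ j, i + 1 ≤ j + r → j ≤ i →
        Subsingleton (Coh.HH X (T.P (a + ((t * N : ℕ) : ℤ) • v)) j)) →
      Module.finrank k (Coh.HH X (T.P a) i) ≤ C * N ^ r * pT (g + 1 - r) (sz a + r * N * sz v + 1) := by
  haveI := CurveCohLib.isNoetherian_of_proper (k := k) (X := X)
  have hO : Coh.IsCoh (Coh.structureModule X) := QCoh.isCoh_structureModule'
  obtain ⟨l, hl, hR, C, hC⟩ := exists_tower k T v hv hgen r _ hO (g + 1)
    (((topologicalKrullDim_subspace_le X _).trans hg).trans_lt (by exact_mod_cast Nat.lt_succ_self g)) hB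
  subst hl
  have e : ∀ j b, gseq k T (Coh.structureModule X) j b = Module.finrank k (Coh.HH X (T.P b) j) := fun j b =>
    HilbPoly.finrank_HH_iso k (CurveTensor.structureTensorIso (T.P b)) j
  refine ⟨C, fun a N i hi hz => ?_⟩
  rw [← e]
  refine (gseq_le_tower k T hB v hv l _ hO hR N i a hi fun t ht ht' j hj hj' => ?_).trans ?_
  · rw [e]
    haveI := hz t ht ht' j hj hj'
    exact Module.finrank_zero_of_subsingleton
  · refine (hC N 0 a _).trans ?_
    rw [Nat.zero_add]

end Groth.Agent.AVRoots
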