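import Groth.Agent.AVRoots.Stab
import Groth.Agent.AVRoots.Field
import Groth.Agent.S19771
import Groth.Agent.H23.KLBasic
import Groth.Agent.FibDim.BaseField

/-!
# The dimension of `K(L)`
-/

noncomputable section

set_option autoImplicit false
set_option linter.style.haveILetI false
set_option linter.unusedSectionVars false
set_option backward.isDefEq.respectTransparency false
set_option backward.isDefEq.respectTransparency.types false
set_option maxHeartbeats 1000000

universe u

open CategoryTheory CategoryTheory.Limits MonoidalCategory CartesianMonoidalCategory MonObj AlgebraicGeometry TopologicalSpace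

namespace Groth.Agent.AVRoots

open Groth.Agent Groth.Agent.H23 Groth.Agent.AVTheta8 Groth.Agent.AVDualCx
open scoped Groth.Agent.H23.PicMul

variable {k : Type u} [Field k] {X : Over (Spec (CommRingCat.of k))} [GrpObj X] [IsProper X.hom]
  [GeometricallyIntegral X.hom] {L : X.left.Modules}

/-- The rational points of `K(L)` over the closure are the stabiliser. -/
theorem mem_range_bc_iff (hL : PicF.IsInvertible L) (K : Over (Spec (CommRingCat.of k))) (i : K ⟶ X)
    (hK : ThetaGrp.IsKL X L i) [IsProper (Red.bc (AVIndex.clMap k) X).hom]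
    [GeometricallyIntegral (Red.bc (AVIndex.clMap k) X).hom]
    (a : 𝟙_ (Over (Spec (CommRingCat.of (AlgebraicClosure k)))) ⟶ Red.bc (AVIndex.clMap k) X) :
    AVAmple.pt a ∈ Set.range ((Over.pullback (AVIndex.clMap k)).map i).left ↔
      a ∈ stab (PicClLib.isInvertible_pullback (prj (AVIndex.clMap k) X) hL) := by
  let Ω := AlgebraicClosure k
  let ps := AVIndex.clMap k
  let A' : Over (Spec (CommRingCat.of Ω)) := Red.bc ps X
  let fA : A'.left ⟶ X.left := prj ps X
  let ī := (Over.pullback ps).map i
  haveI : IsClosedImmersion i.left := hK.closed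
  haveI : IsClosedImmersion ī.left := MorphismProperty.of_isPullback
    (P := @IsClosedImmersion)
    (IsPullback.of_bot (by
      show IsPullback (Limits.pullback.fst K.hom ps) (ī.left ≫ Limits.pullback.snd X.hom ps) (i.left ≫ X.hom) ps
      rw [show ī.left ≫ Limits.pullback.snd X.hom ps = Limits.pullback.snd K.hom ps from pullback.lift_snd _ _ _,
        Over.w i]
      exact IsPullback.of_hasPullback K.hom ps) (pullback.lift_fst _ _ _).symm
      (IsPullback.of_hasPullback X.hom ps)) inferInstance
  let T : Over (Spec (CommRingCat.of k)) := Over.mk ((𝟙_ (Over (Spec (CommRingCat.of Ω)))).hom ≫ ps)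
  let x : T ⟶ X := Groth.Agent.S19771.dn a
  have hd : ∀ z : 𝟙_ (Over (Spec (CommRingCat.of Ω))) ⟶ (Over.pullback ps).obj K,
      Groth.Agent.S19771.dn z ≫ i = Groth.Agent.S19771.dn (z ≫ ī) := fun z => Over.OverMorphism.ext (by
    show (z.left ≫ Limits.pullback.fst K.hom ps) ≫ i.left = (z.left ≫ ī.left) ≫ Limits.pullback.fst X.hom ps
    rw [Category.assoc, Category.assoc]
    exact congrArg (z.left ≫ ·) (pullback.lift_fst _ _ _).symm)
  have h1 : AVAmple.pt a ∈ Set.range ī.left ↔ ∃ y : T ⟶ K, y ≫ i = x := by
    constructor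
    · rintro ⟨z, hz⟩
      haveI : LocallyOfFiniteType ((Over.pullback ps).obj K).hom := by rw [← Over.w ī]; infer_instance
      have hzc : IsClosed ({z} : Set ((Over.pullback ps).obj K).left) := by
        have h := (AVAmple.isClosed_pt a).preimage ī.left.continuous
        rw [← hz] at h
        convert h using 1
        exact (Set.preimage_image_eq {z} ī.left.isEmbedding.injective).symm.trans (by rw [Set.image_singleton])
      obtain ⟨z', rfl⟩ := AVSubLib.exists_pt hzc
      refine ⟨Groth.Agent.S19771.dn z', ?_⟩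
      rw [hd, show z' ≫ ī = a from AVTheta8.pt_injective hz]
    · rintro ⟨y, hy⟩
      let z : 𝟙_ (Over (Spec (CommRingCat.of Ω))) ⟶ (Over.pullback ps).obj K :=
        Over.homMk (pullback.lift y.left (𝟙 _) ((Over.w y).trans rfl)) (pullback.lift_snd _ _ _)
      have hz : z ≫ ī = a := by
        refine Over.OverMorphism.ext (pullback.hom_ext ?_ ?_)
        · show (z.left ≫ ī.left) ≫ _ = _
          rw [Category.assoc, show ī.left ≫ pullback.fst X.hom ps = pullback.fst K.hom ps ≫ i.left from
            pullback.lift_fst _ _ _, ← Category.assoc, show z.left ≫ pullback.fst K.hom ps = y.left from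
            pullback.lift_fst _ _ _]
          exact congrArg CommaMorphism.left hy
        · exact (Over.w (z ≫ ī)).trans (Over.w a).symm
      rw [← hz]
      exact ⟨z.left (IsLocalRing.closedPoint Ω), rfl⟩
  let ι' : Over.mk (A'.hom ≫ ps) ⟶ X ⊗ T := Over.homMk (pullback.lift (fA) A'.hom (by
      show _ = _ ≫ (𝟙 _ ≫ ps)
      rw [Category.id_comp]
      exact pullback.condition)) (by
      show pullback.lift _ _ _ ≫ pullback.fst _ _ ≫ X.hom = _
      rw [pullback.lift_fst_assoc]
      exact pullback.condition)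
  have hι : ι'.left ≫ (fst X T).left = fA := pullback.lift_fst _ _ _
  have hι2 : ι'.left ≫ (snd X T).left = A'.hom := pullback.lift_snd _ _ _
  haveI : IsIso ι'.left := ⟨pullback.lift (fst X T).left (snd X T).left (by
      show _ = (snd X T).left ≫ ps
      rw [Over.w (fst X T), ← Over.w (snd X T)]
      show (snd X T).left ≫ (𝟙 _ ≫ ps) = _
      rw [Category.id_comp]), by
      refine pullback.hom_ext ?_ ?_
      · rw [Category.assoc, pullback.lift_fst, hι, Category.id_comp]
      · rw [Category.assoc, pullback.lift_snd, hι2, Category.id_comp]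
        rfl, by
      apply pullback.hom_ext
      · show (_ ≫ ι'.left) ≫ (fst X T).left = _ ≫ (fst X T).left
        rw [Category.assoc, hι]
        exact (pullback.lift_fst _ _ _).trans (Category.id_comp _).symm
      · show (_ ≫ ι'.left) ≫ (snd X T).left = _ ≫ (snd X T).left
        rw [Category.assoc, hι2]
        exact (pullback.lift_snd _ _ _).trans (Category.id_comp _).symm⟩
  have h3 : (𝟙 A' * (toUnit A' ≫ a)).left ≫ fA = ι'.left ≫ (ThetaGrp.transl X x ≫ fst X T).left := by
    have h4 := congrArg CommaMorphism.left (Groth.Agent.S19771.dn_mul (b := ps) (𝟙 A') (toUnit A' ≫ a))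
    have e1 : (Groth.Agent.S19771.dn (𝟙 A') : Over.mk (A'.hom ≫ ps) ⟶ X) = ι' ≫ fst X T :=
      Over.OverMorphism.ext ((Category.id_comp _).trans hι.symm)
    have e2 : (Groth.Agent.S19771.dn (toUnit A' ≫ a) : Over.mk (A'.hom ≫ ps) ⟶ X) = ι' ≫ snd X T ≫ x := by
      refine Over.OverMorphism.ext ?_
      show (A'.hom ≫ a.left) ≫ pullback.fst X.hom ps = ι'.left ≫ (snd X T).left ≫ a.left ≫ pullback.fst X.hom ps
      rw [reassoc_of% hι2, Category.assoc]
    rw [e1, e2, ← MonObj.comp_mul, ← ThetaGrp.transl_fst] at h4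
    exact h4
  have hinj : ∀ {c d : PicF.Cl (X ⊗ T).left}, PicF.pullCl ι'.left c = PicF.pullCl ι'.left d → c = d :=
    fun {c d} h => by
      have h' := congrArg (PicF.pullCl (inv ι'.left)) h
      rwa [PicClLib.pullCl_comp, PicClLib.pullCl_comp, IsIso.inv_hom_id, PicClLib.pullCl_id, PicClLib.pullCl_id] at h'
  have key : ((Groth.Agent.H23.KLBasic.Eq L T x 1) ↔
      Nonempty ((Scheme.Modules.pullback (𝟙 A' * (toUnit A' ≫ a)).left).obj ((Scheme.Modules.pullback fA).obj L) ≅
        (Scheme.Modules.pullback fA).obj L)) := by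
    rw [← PicMul.cl_eq_iff]
    show _ ↔ PicF.pullCl _ (PicF.pullCl fA (PicF.cl L)) = PicF.pullCl fA (PicF.cl L)
    rw [Groth.Agent.H23.KLBasic.Eq, PicMul.pullCl_one, _root_.mul_one, PicClLib.pullCl_comp, h3, ← hι,
      ← PicClLib.pullCl_comp ι'.left, ← PicClLib.pullCl_comp ι'.left]
    exact ⟨fun h => congrArg _ h, hinj⟩
  rw [h1, ← hK.univ T x, Groth.Agent.H23.KLBasic.mumford_iff hL x]
  refine Iff.trans ?_ (Iff.trans key (mem_stab _ a).symm)
  constructor
  · rintro ⟨c, ⟨M, hM, hMi⟩, he⟩
    haveI : Subsingleton T.left := inferInstanceAs (Subsingleton (Spec (CommRingCat.of Ω)))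
    haveI : Nonempty T.left := inferInstanceAs (Nonempty (Spec (CommRingCat.of Ω)))
    have hc1 : c = 1 := by rw [← hM]; exact H23.KLBasic.trivial_of_subsingleton hMi
    rwa [hc1] at he
  · exact fun h => ⟨1, ⟨Coh.structureModule _, rfl, PicLoc.isInvertible_structureModule _⟩, h⟩

end Groth.Agent.AVRoots
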