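import Groth.Agent.AVRoots.Family

/-!
# The roots of the Hilbert polynomial of a line bundle on an abelian variety

The index of `L ⊗ H^x` only changes at the real roots of the Hilbert polynomial, by at most the multiplicity.
-/

noncomputable section

set_option autoImplicit false
set_option linter.style.haveILetI false
set_option linter.unusedSectionVars false
set_option backward.isDefEq.respectTransparency false
set_option backward.isDefEq.respectTransparency.types false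
set_option maxHeartbeats 1000000

universe u

open CategoryTheory CategoryTheory.Limits AlgebraicGeometry TopologicalSpace

namespace Groth.Agent.AVRoots

open Groth.Agent Groth.Agent.H23 Groth.Agent.VolLib
open scoped Groth.Agent.H23.PicMul

variable {k : Type u} [Field k] [IsAlgClosed k] {A : Over (Spec (CommRingCat.of k))} [GrpObj A] [IsProper A.hom]
  [GeometricallyIntegral A.hom] {L H : A.left.Modules} (hL : PicF.IsInvertible L) (hH : CohB1.IsAmple H)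
  {g : ℕ} (hg : topologicalKrullDim A.left = g) {Φ : Polynomial ℚ}
  (hΦ : ∀ n : ℕ, Φ.eval (n : ℚ) =
    (@Curv2.euler k _ A.left ⟨A.hom⟩ (CohB1.tensorMod L (CohB1.tensorPow H n)) : ℚ))

include hg hΦ in
/-- A drop of the index by `r` over a step `δ` forces the polynomial to be of size `δ ^ r`. -/
theorem exists_jump (r : ℕ) (hr : 1 ≤ r) (hrg : r ≤ g) :
    ∃ C : ℕ, ∀ x δ : ℚ, 0 < δ → Φ.eval x ≠ 0 → (∀ t : ℕ, 1 ≤ t → t ≤ r → Φ.eval (x + (t : ℚ) * δ) ≠ 0) →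
      idx hL hH (x + δ) + r ≤ idx hL hH x → |Φ.eval x| ≤ (C : ℚ) * δ ^ r * (2 + |x| + (r : ℚ) * δ) ^ (g - r) := by
  letI : A.left.Over (Spec (CommRingCat.of k)) := ⟨A.hom⟩
  haveI : IsProper (A.left ↘ Spec (CommRingCat.of k)) := ‹IsProper A.hom›
  haveI : CompactSpace A.left := QuasiCompact.compactSpace_of_compactSpace A.hom
  haveI : A.left.IsSeparated := ⟨by
    rw [← terminal.comp_from A.hom]
    infer_instance⟩
  obtain ⟨β, hβ, hgen⟩ := VolLib.exists_gen_pow hH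
  let B := CohB1.tensorPow H β
  let v : Fin 2 → ℤ := ![0, (β : ℤ)]
  have hB : PicF.IsInvertible B := (AmpleX.isAmple_tensorPow hH hβ).1
  have hP : ∀ a : Fin 2 → ℤ, (fam hL hH).P a = P hL hH (a 0) (a 1) := fun a =>
    congrArg (fam hL hH).P (funext fun j => by fin_cases j <;> rfl)
  have hv : ∀ (a : Fin 2 → ℤ) (e : ℕ),
      PicF.cl B ^ e * PicF.cl ((fam hL hH).P a) = PicF.cl ((fam hL hH).P (a + (e : ℤ) • v)) := fun a e => by
    rw [hP, hP, show B = CohB1.tensorPow H β from rfl, PicMul.cl_tensorPow, ← val_ucl hH.1, cl_P, cl_P,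
      ← Units.val_pow_eq_pow_val, ← Units.val_pow_eq_pow_val, ← Units.val_mul]
    congr 1
    simp only [v, Pi.add_apply, Pi.smul_apply, smul_eq_mul, Matrix.cons_val_zero, Matrix.cons_val_one, mul_zero,
      add_zero, zpow_add, ← zpow_natCast]
    rw [← zpow_mul, mul_comm (β : ℤ) (e : ℤ)]
    exact mul_comm _ _ |>.trans (_root_.mul_assoc _ _ _)
  obtain ⟨C, hC⟩ := exists_growth k (fam hL hH) hB v hv hgen hg.le r
  refine ⟨C, fun x δ hδ hx hxt hdrop => ?_⟩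
  let N : ℕ := δ.num.toNat * x.den
  let q : ℕ := β * (x.den * δ.den)
  let p : ℤ := x.num * δ.den * β
  have hq : 0 < q := Nat.mul_pos hβ (Nat.mul_pos x.den_pos δ.den_pos)
  have hq' : (0 : ℚ) < q := by exact_mod_cast hq
  have hxd : (x.den : ℚ) ≠ 0 := by exact_mod_cast x.den_nz
  have hδd : (δ.den : ℚ) ≠ 0 := by exact_mod_cast δ.den_nz
  have hx' : (p : ℚ) = x * q := by
    simp only [p, q]; push_cast; rw [← Rat.mul_den_eq_num x]; ring
  have hN : (N : ℚ) * β = δ * q := by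
    have h : ((δ.num.toNat : ℕ) : ℚ) = δ * δ.den := by
      rw [Rat.mul_den_eq_num, ← Int.cast_natCast, Int.toNat_of_nonneg (Rat.num_nonneg.2 hδ.le)]
    simp only [N, q]; push_cast; rw [h]; ring
  have hpq : (p : ℚ) / q = x := by rw [hx', mul_div_assoc, div_self hq'.ne', mul_one]
  obtain ⟨hci, hig⟩ := conc_idx hL hH hg hΦ hx hq hpq
  have hx1 : Φ.eval (x + δ) ≠ 0 := by simpa using hxt 1 le_rfl hr
  have hgrow := hC ![(q : ℤ), p] N (idx hL hH x) (by omega) fun t ht htr j hj hji => by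
    have hvec : (![(q : ℤ), p] + ((t * N : ℕ) : ℤ) • v) = ![(q : ℤ), p + ((t * N * β : ℕ) : ℤ)] := by
      funext j; fin_cases j <;> simp [v]
    rw [hvec]
    have hpt : ((p + ((t * N * β : ℕ) : ℤ) : ℤ) : ℚ) / q = x + (t : ℚ) * δ := by
      push_cast
      rw [mul_assoc (t : ℚ), hN, hx']
      field_simp
    obtain ⟨hct, -⟩ := conc_idx hL hH hg hΦ (hxt t ht htr) hq hpt
    refine hct.1 j ?_
    have hmono := idx_anti hL hH hg hΦ hx1 (hxt t ht htr)
      (add_le_add le_rfl (le_mul_of_one_le_left hδ.le (by exact_mod_cast ht)))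
    omega
  have hfr : (Module.finrank k (Coh.HH A.left (P hL hH (q : ℤ) p) (idx hL hH x)) : ℚ) = (q : ℚ) ^ g * |Φ.eval x| := by
    have h := congrArg (fun z : ℤ => (z : ℚ)) hci.finrank_eq
    rw [Int.cast_natCast, Int.cast_abs, euler_P hL hH hg hΦ hq p, hpq, abs_mul,
      abs_of_nonneg (pow_nonneg hq'.le g)] at h
    exact h
  have hgrow' : (q : ℚ) ^ g * |Φ.eval x| ≤
      (C : ℚ) * (N : ℚ) ^ r * ((sz ![(q : ℤ), p] + r * N * sz v + 1 : ℕ) : ℚ) ^ (g - r) := by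
    rw [← hfr, ← Nat.cast_pow, ← Nat.cast_pow, ← Nat.cast_mul, ← Nat.cast_mul]
    refine Nat.cast_le.2 (hgrow.trans (le_of_eq ?_))
    rw [show g + 1 - r = g - r + 1 by omega]
    rfl
  have hN1 : (N : ℚ) ≤ δ * q := by
    rw [← hN]; exact le_mul_of_one_le_right (Nat.cast_nonneg _) (by exact_mod_cast hβ)
  have hq1 : (1 : ℚ) ≤ q := by exact_mod_cast hq
  have hsza : (sz ![(q : ℤ), p] : ℚ) ≤ q * (1 + |x|) := by
    have h1 : sz ![(q : ℤ), p] ≤ q + p.natAbs := Finset.sup_le fun j _ => by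
      fin_cases j <;> simp
    refine (Nat.cast_le.2 h1).trans (le_of_eq ?_)
    push_cast
    rw [Nat.cast_natAbs, Int.cast_abs, hx', abs_mul, abs_of_pos hq']
    ring
  have hszv : sz v ≤ β := Finset.sup_le fun j _ => by fin_cases j <;> simp [v]
  have hM : ((sz ![(q : ℤ), p] + r * N * sz v + 1 : ℕ) : ℚ) ≤ (q : ℚ) * (2 + |x| + (r : ℚ) * δ) := by
    have h2 : ((r * N * sz v : ℕ) : ℚ) ≤ (r : ℚ) * (δ * q) := by
      refine (Nat.cast_le.2 (Nat.mul_le_mul_left (r * N) hszv)).trans (le_of_eq ?_)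
      push_cast
      rw [mul_assoc, hN]
    calc ((sz ![(q : ℤ), p] + r * N * sz v + 1 : ℕ) : ℚ)
        = (sz ![(q : ℤ), p] : ℚ) + ((r * N * sz v : ℕ) : ℚ) + 1 := by push_cast; ring
      _ ≤ q * (1 + |x|) + (r : ℚ) * (δ * q) + q := add_le_add (add_le_add hsza h2) hq1
      _ = _ := by ring
  refine le_of_mul_le_mul_left (hgrow'.trans ?_) (pow_pos hq' g)
  calc (C : ℚ) * (N : ℚ) ^ r * ((sz ![(q : ℤ), p] + r * N * sz v + 1 : ℕ) : ℚ) ^ (g - r)
      ≤ (C : ℚ) * (δ * q) ^ r * ((q : ℚ) * (2 + |x| + (r : ℚ) * δ)) ^ (g - r) := by gcongr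
    _ = _ := by
      rw [mul_pow, mul_pow]
      nth_rewrite 3 [show g = r + (g - r) by omega]
      rw [pow_add]
      ring

/-- The real polynomial of `Φ`. -/
abbrev rPoly (Φ : Polynomial ℚ) : Polynomial ℝ := Φ.map (algebraMap ℚ ℝ)

theorem eval_rPoly (Φ : Polynomial ℚ) (x : ℚ) : (rPoly Φ).eval (x : ℝ) = ((Φ.eval x : ℚ) : ℝ) := by
  rw [Polynomial.eval_map, ← eq_ratCast (algebraMap ℚ ℝ) x, Polynomial.eval₂_at_apply, eq_ratCast]

theorem rPoly_ne_zero {Φ : Polynomial ℚ} (h : Φ ≠ 0) : rPoly Φ ≠ 0 := fun h' =>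
  h ((Polynomial.map_eq_zero _).1 h')

include hg hΦ in
/-- Near a real number the index drops by at most the multiplicity of the root there. -/
theorem exists_local (hΦ0 : Φ ≠ 0) (τ : ℝ) : ∃ ρ : ℝ, 0 < ρ ∧ ∀ a b : ℚ, Φ.eval a ≠ 0 → Φ.eval b ≠ 0 →
    τ - ρ < a → a ≤ b → (b : ℝ) < τ + ρ → idx hL hH a ≤ idx hL hH b + (rPoly Φ).rootMultiplicity τ := by
  obtain ⟨μ, hμ⟩ : ∃ μ, (rPoly Φ).rootMultiplicity τ = μ := ⟨_, rfl⟩
  rw [hμ]
  rcases Nat.lt_or_ge g (μ + 1) with hgμ | hgμ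
  · exact ⟨1, one_pos, fun a b ha _ _ _ _ =>
      ((conc_idx hL hH hg hΦ ha a.den_pos (Rat.num_div_den a)).2.trans (by omega))⟩
  obtain ⟨C, hC⟩ := exists_jump hL hH hg hΦ (μ + 1) (by omega) hgμ
  obtain ⟨ψ, hψ, hψ'⟩ := (rPoly Φ).exists_eq_pow_rootMultiplicity_mul_and_not_dvd (rPoly_ne_zero hΦ0) τ
  rw [hμ] at hψ
  rw [Polynomial.dvd_iff_isRoot, Polynomial.IsRoot.def] at hψ'
  have hc : 0 < |ψ.eval τ| / 2 := half_pos (abs_pos.2 hψ')
  obtain ⟨η, hη, hη'⟩ := Metric.continuous_iff.1 ψ.continuous τ _ hc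
  have hnear : ∀ y : ℝ, |y - τ| < η → |ψ.eval τ| / 2 ≤ |ψ.eval y| := fun y hy => by
    have h := hη' y hy
    rw [Real.dist_eq] at h
    have := abs_sub_abs_le_abs_sub (ψ.eval τ) (ψ.eval y)
    rw [abs_sub_comm] at this
    linarith
  let M₀ : ℝ := 3 + |τ| + 4 * (μ + 1 : ℕ)
  have hM₀ : 0 < M₀ := by positivity
  let K : ℝ := (C : ℝ) * 4 ^ (μ + 1) * M₀ ^ (g - (μ + 1)) + 1
  have hK : 0 < K := by positivity
  let ε : ℝ := min (η / (4 * (μ + 1 : ℕ) + 2)) (min (1 / 2) (|ψ.eval τ| / 2 / (2 * K)))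
  have hε : 0 < ε := lt_min (div_pos hη (by positivity)) (lt_min (by norm_num) (div_pos hc (by positivity)))
  have hεη : ε * (4 * (μ + 1 : ℕ) + 2) ≤ η := (le_div_iff₀ (by positivity)).1 (min_le_left _ _)
  have hεh : ε ≤ 1 / 2 := (min_le_right _ _).trans (min_le_left _ _)
  have hεK : ε * (2 * K) ≤ |ψ.eval τ| / 2 :=
    (le_div_iff₀ (by positivity)).1 ((min_le_right _ _).trans (min_le_right _ _))
  obtain ⟨x, hx1, hx2⟩ := exists_rat_btwn (show τ - 2 * ε < τ - ε by linarith)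
  obtain ⟨δ, hδ1, hδ2⟩ := exists_rat_btwn (show 3 * ε < 4 * ε by linarith)
  have hδ : 0 < δ := by
    have : (0 : ℝ) < (δ : ℝ) := by linarith
    exact_mod_cast this
  have heval : ∀ y : ℚ, ((Φ.eval y : ℚ) : ℝ) = ((y : ℝ) - τ) ^ μ * ψ.eval (y : ℝ) := fun y => by
    rw [← eval_rPoly, hψ, Polynomial.eval_mul, Polynomial.eval_pow, Polynomial.eval_sub, Polynomial.eval_X,
      Polynomial.eval_C]
  have hμ1 : (0 : ℝ) < ((μ + 1 : ℕ) : ℝ) := by positivity
  have hnonroot : ∀ y : ℚ, (y : ℝ) ≠ τ → |(y : ℝ) - τ| < η → Φ.eval y ≠ 0 := fun y hy hy' h => by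
    have h' := heval y
    rw [h, Rat.cast_zero, eq_comm, mul_eq_zero] at h'
    rcases h' with h' | h'
    · exact hy (sub_eq_zero.1 (eq_zero_of_pow_eq_zero h'))
    · have := hnear _ hy'
      rw [h', abs_zero] at this
      linarith
  have hmεpos : (0 : ℝ) ≤ 4 * ((μ + 1 : ℕ) : ℝ) * ε := by positivity
  have hx0 : Φ.eval x ≠ 0 := hnonroot x (by linarith) (by rw [abs_lt]; constructor <;> linarith)
  have hxt : ∀ t : ℕ, 1 ≤ t → t ≤ μ + 1 → Φ.eval (x + (t : ℚ) * δ) ≠ 0 := fun t ht htr => by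
    have ht' : (1 : ℝ) ≤ t := by exact_mod_cast ht
    have htr' : (t : ℝ) ≤ ((μ + 1 : ℕ) : ℝ) := by exact_mod_cast htr
    have h1 : (δ : ℝ) ≤ (t : ℝ) * δ := le_mul_of_one_le_left (by linarith) ht'
    have h2 : (t : ℝ) * δ ≤ ((μ + 1 : ℕ) : ℝ) * (4 * ε) :=
      mul_le_mul htr' hδ2.le (by linarith) hμ1.le
    refine hnonroot _ ?_ ?_
    · push_cast; linarith
    · push_cast; rw [abs_lt]; constructor <;> linarith
  have hjump : idx hL hH x ≤ idx hL hH (x + δ) + μ := by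
    by_contra hlt
    have h := hC x δ hδ hx0 hxt (by omega)
    have hR : |((Φ.eval x : ℚ) : ℝ)| ≤
        (C : ℝ) * (δ : ℝ) ^ (μ + 1) * (2 + |(x : ℝ)| + ((μ + 1 : ℕ) : ℝ) * δ) ^ (g - (μ + 1)) := by
      exact_mod_cast h
    have hlow : ε ^ μ * (|ψ.eval τ| / 2) ≤ |((Φ.eval x : ℚ) : ℝ)| := by
      rw [heval, abs_mul, abs_pow]
      refine mul_le_mul (pow_le_pow_left₀ hε.le ?_ μ) (hnear _ (by rw [abs_lt]; constructor <;> linarith))
        (by positivity) (by positivity)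
      rw [abs_sub_comm]
      exact le_trans (by linarith) (le_abs_self _)
    have hup : (C : ℝ) * (δ : ℝ) ^ (μ + 1) * (2 + |(x : ℝ)| + ((μ + 1 : ℕ) : ℝ) * δ) ^ (g - (μ + 1)) ≤
        K * (ε ^ μ * ε) := by
      have hM : 2 + |(x : ℝ)| + ((μ + 1 : ℕ) : ℝ) * δ ≤ M₀ := by
        have h1 : |(x : ℝ)| ≤ |τ| + 1 := by
          rw [abs_le]; constructor <;> linarith [le_abs_self τ, neg_abs_le τ]
        have h2 : ((μ + 1 : ℕ) : ℝ) * δ ≤ ((μ + 1 : ℕ) : ℝ) * 4 := mul_le_mul_of_nonneg_left (by linarith) hμ1.le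
        simp only [M₀]
        linarith
      calc (C : ℝ) * (δ : ℝ) ^ (μ + 1) * (2 + |(x : ℝ)| + ((μ + 1 : ℕ) : ℝ) * δ) ^ (g - (μ + 1))
          ≤ (C : ℝ) * (4 * ε) ^ (μ + 1) * M₀ ^ (g - (μ + 1)) := by
            gcongr
        _ = (K - 1) * (ε ^ μ * ε) := by simp only [K]; rw [mul_pow, pow_succ ε]; ring
        _ ≤ K * (ε ^ μ * ε) := mul_le_mul_of_nonneg_right (by linarith) (by positivity)
    have h3 := (hlow.trans hR).trans hup
    rw [show K * (ε ^ μ * ε) = ε ^ μ * (K * ε) by ring] at h3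
    have h4 := le_of_mul_le_mul_left h3 (pow_pos hε μ)
    have : (0 : ℝ) < K * ε := mul_pos hK hε
    linarith [mul_comm K ε]
  refine ⟨ε, hε, fun a b ha hb ha' hab hb' => ?_⟩
  have hxa : x ≤ a := by
    have : (x : ℝ) ≤ a := by linarith
    exact_mod_cast this
  have hby : b ≤ x + δ := by
    have : (b : ℝ) ≤ ((x + δ : ℚ) : ℝ) := by push_cast; linarith
    exact_mod_cast this
  have hy0 : Φ.eval (x + δ) ≠ 0 := by simpa using hxt 1 le_rfl (by omega)
  have h1 := idx_anti hL hH hg hΦ hx0 ha hxa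
  have h2 := idx_anti hL hH hg hΦ hb hy0 hby
  omega

theorem exists_nonroot {Φ : Polynomial ℚ} (hΦ0 : Φ ≠ 0) {a b : ℝ} (hab : a < b) :
    ∃ c : ℚ, a < c ∧ (c : ℝ) < b ∧ Φ.eval c ≠ 0 := by
  obtain ⟨c₁, h1, h1'⟩ := exists_rat_btwn hab
  obtain ⟨c₂, h2, h2'⟩ := exists_rat_btwn h1'
  obtain ⟨c, hc, hc'⟩ := ((Set.Ioo_infinite (show c₁ < c₂ by exact_mod_cast h2)).diff
    (Polynomial.finite_setOf_isRoot hΦ0)).nonempty
  exact ⟨c, h1.trans (by exact_mod_cast hc.1), lt_trans (by exact_mod_cast hc.2) h2', hc'⟩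

/-- The number of roots strictly between, with multiplicity. -/
def nRoots (Φ : Polynomial ℚ) (a b : ℝ) : ℕ :=
  Multiset.card ((rPoly Φ).roots.filter fun t => a < t ∧ t < b)

theorem nRoots_mono (Φ : Polynomial ℚ) {a b b' : ℝ} (h : b ≤ b') : nRoots Φ a b ≤ nRoots Φ a b' :=
  Multiset.card_le_card (Multiset.monotone_filter_right _ fun _ ht => ⟨ht.1, ht.2.trans_le h⟩)

theorem nRoots_add_le (Φ : Polynomial ℚ) {a c τ b : ℝ} (hc : a < c) (hcτ : c < τ) (hτb : τ < b) :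
    nRoots Φ a c + (rPoly Φ).rootMultiplicity τ ≤ nRoots Φ a b := by
  classical
  rw [nRoots, nRoots, ← Multiset.card_replicate ((rPoly Φ).rootMultiplicity τ) τ, ← Multiset.card_add]
  refine Multiset.card_le_card (Multiset.le_iff_count.2 fun t => ?_)
  rw [Multiset.count_add, Multiset.count_filter, Multiset.count_filter, Multiset.count_replicate,
    Polynomial.count_roots]
  rcases eq_or_ne τ t with rfl | ht
  · rw [if_neg (fun h => absurd h.2 (not_lt.2 hcτ.le)), if_pos rfl, if_pos ⟨hc.trans hcτ, hτb⟩, Nat.zero_add]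
  · rw [if_neg ht, Nat.add_zero]
    split_ifs with h1 h2 <;> first | exact le_rfl | exact Nat.zero_le _ |
      exact absurd ⟨h1.1, h1.2.trans (hcτ.trans hτb)⟩ h2

include hg hΦ in
/-- **The index only changes at roots**, and by at most their number. -/
theorem idx_le_add_nRoots (hΦ0 : Φ ≠ 0) {a b : ℚ} (ha : Φ.eval a ≠ 0) (hb : Φ.eval b ≠ 0) (hab : a ≤ b) :
    idx hL hH a ≤ idx hL hH b + nRoots Φ a b := by
  let S : Set ℝ := {s | (a : ℝ) ≤ s ∧ s ≤ b ∧ ∀ c : ℚ, Φ.eval c ≠ 0 → a ≤ c → (c : ℝ) ≤ s →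
    idx hL hH a ≤ idx hL hH c + nRoots Φ a c}
  have haS : (a : ℝ) ∈ S := ⟨le_rfl, by exact_mod_cast hab, fun c _ hac hca => by
    obtain rfl : c = a := le_antisymm (by exact_mod_cast hca) hac
    exact Nat.le_add_right _ _⟩
  have hbdd : BddAbove S := ⟨b, fun s hs => hs.2.1⟩
  let τ := sSup S
  have hτa : (a : ℝ) ≤ τ := le_csSup hbdd haS
  have hτb : τ ≤ b := csSup_le ⟨_, haS⟩ fun s hs => hs.2.1
  obtain ⟨ρ, hρ, hloc⟩ := exists_local hL hH hg hΦ hΦ0 τ
  have hμ0 : ∀ c : ℚ, Φ.eval c ≠ 0 → (c : ℝ) = τ → (rPoly Φ).rootMultiplicity τ = 0 := fun c hc hcτ => by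
    refine Polynomial.rootMultiplicity_eq_zero fun h => hc ?_
    rw [← hcτ, Polynomial.IsRoot.def, eval_rPoly] at h
    exact_mod_cast h
  have claim : ∀ c : ℚ, Φ.eval c ≠ 0 → a ≤ c → (c : ℝ) < τ + ρ → idx hL hH a ≤ idx hL hH c + nRoots Φ a c := by
    intro c hc hac hcρ
    rcases lt_or_ge (c : ℝ) τ with h | h
    · obtain ⟨s, hs, hcs⟩ := exists_lt_of_lt_csSup ⟨_, haS⟩ h
      exact hs.2.2 c hc hac hcs.le
    rcases hτa.eq_or_lt with h0 | h0
    · have := hloc a c ha hc (by linarith) hac hcρ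
      rw [hμ0 a ha h0] at this
      omega
    obtain ⟨c₀, hc₀1, hc₀2, hc₀⟩ := exists_nonroot hΦ0 (show max (a : ℝ) (τ - ρ) < τ from max_lt h0 (by linarith))
    rw [max_lt_iff] at hc₀1
    obtain ⟨s, hs, hcs⟩ := exists_lt_of_lt_csSup ⟨_, haS⟩ hc₀2
    have h1 := hs.2.2 c₀ hc₀ (by exact_mod_cast hc₀1.1.le) hcs.le
    have h2 := hloc c₀ c hc₀ hc hc₀1.2
      (by have h' : (c₀ : ℝ) ≤ c := le_trans hc₀2.le h; exact_mod_cast h') hcρ
    rcases h.eq_or_lt with hcτ | hcτ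
    · rw [hμ0 c hc hcτ.symm] at h2
      have := nRoots_mono Φ (a := (a : ℝ)) (show (c₀ : ℝ) ≤ c by linarith)
      omega
    · have := nRoots_add_le Φ hc₀1.1 hc₀2 hcτ
      omega
  refine claim b hb hab ?_
  by_contra hbρ
  rw [not_lt] at hbρ
  have : τ + ρ / 2 ∈ S := ⟨by linarith, by linarith, fun c hc hac hcs => claim c hc hac (by linarith)⟩
  have := le_csSup hbdd this
  linarith

include hg in
theorem conc_idx_zero_one (hΦ' : ∀ n : ℕ, Φ.eval (n : ℚ) =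
    (@Curv2.euler k _ A.left ⟨A.hom⟩ (CohB1.tensorMod L (CohB1.tensorPow H n)) : ℚ)) (n : ℕ) {M : A.left.Modules}
    (hM : PicF.cl M = PicF.cl (CohB1.tensorMod L (CohB1.tensorPow H n))) {i : ℕ} (hc : Conc M i) :
    Φ.eval (n : ℚ) ≠ 0 ∧ idx hL hH (n : ℚ) = i := by
  letI : A.left.Over (Spec (CommRingCat.of k)) := ⟨A.hom⟩
  haveI : IsProper (A.left ↘ Spec (CommRingCat.of k)) := ‹IsProper A.hom›
  haveI := CurveCohLib.isNoetherian_of_proper (k := k) (X := A.left)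
  have hc' : Conc (P hL hH ((1 : ℕ) : ℤ) (n : ℤ)) i := hc.of_cl (hM.trans (cl_P_one hL hH n).symm)
  have he : @Curv2.euler k _ A.left ⟨A.hom⟩ (P hL hH ((1 : ℕ) : ℤ) (n : ℤ)) ≠ 0 := by
    intro h
    have h1 := hc'.finrank_eq
    rw [h, abs_zero, Int.natCast_eq_zero] at h1
    haveI : Module.Finite k (Coh.HH A.left (P hL hH ((1 : ℕ) : ℤ) (n : ℤ)) i) :=
      CurveCohLib.finite_HH (k := k) (AmpleVan.isCoh_invertible (isInvertible_P hL hH _ _)) i
    haveI := Module.finrank_zero_iff.1 h1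
    exact not_subsingleton_iff_nontrivial.2 hc'.2 inferInstance
  have hn : Φ.eval (n : ℚ) ≠ 0 := fun h => he (by
    have h1 := euler_P hL hH hg hΦ' Nat.one_pos (n : ℤ)
    simp only [Nat.cast_one, Int.cast_natCast, div_one, h, mul_zero] at h1
    exact_mod_cast h1)
  exact ⟨hn, Conc.unique (conc_idx hL hH hg hΦ' hn Nat.one_pos (by simp)).1 hc'⟩

include hL hH hg hΦ in
/-- **The roots of the Hilbert polynomial are real, and the index counts the positive ones.** -/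
theorem card_roots_and_index {i : ℕ} (hc : Conc L i) :
    Multiset.card (rPoly Φ).roots = Φ.natDegree ∧
      i = Multiset.card ((rPoly Φ).roots.filter fun t => 0 < t) := by
  classical
  letI : A.left.Over (Spec (CommRingCat.of k)) := ⟨A.hom⟩
  haveI : IsProper (A.left ↘ Spec (CommRingCat.of k)) := ‹IsProper A.hom›
  haveI : CompactSpace A.left := QuasiCompact.compactSpace_of_compactSpace A.hom
  haveI : A.left.IsSeparated := ⟨by
    rw [← terminal.comp_from A.hom]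
    infer_instance⟩
  obtain ⟨h0, hi0⟩ := conc_idx_zero_one hL hH hg hΦ 0 (M := L)
    (by rw [PicMul.cl_tensor, PicMul.cl_tensorPow, pow_zero, _root_.mul_one]) hc
  rw [Nat.cast_zero] at h0 hi0
  have hΦ0 : Φ ≠ 0 := fun h => h0 (by rw [h, Polynomial.eval_zero])
  obtain ⟨D, hD, ⟨e⟩⟩ := H23.PicInv.exists_inverse hL
  have hLD : PicF.cl L * PicF.cl D = 1 := by
    rw [← PicMul.cl_tensor, PicMul.one_def]; exact PicMul.cl_eq_iff.2 ⟨e⟩
  obtain ⟨n₁, -, hn₁⟩ := AmpleX.eventually_ample_tensor hH hL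
  obtain ⟨n₂, -, hn₂⟩ := AmpleX.eventually_ample_tensor hH hD
  let R := ∑ t ∈ (rPoly Φ).roots.toFinset, |t|
  obtain ⟨n, hn⟩ := exists_nat_gt (max R (max (n₁ : ℝ) n₂))
  simp only [max_lt_iff] at hn
  have hroot : ∀ t ∈ (rPoly Φ).roots, |t| < (n : ℝ) := fun t ht =>
    (Finset.single_le_sum (f := fun t : ℝ => |t|) (fun t _ => abs_nonneg t) (Multiset.mem_toFinset.2 ht)).trans_lt hn.1
  have hN1 : n₁ ≤ n := by exact_mod_cast hn.2.1.le
  have hN2 : n₂ ≤ n := by exact_mod_cast hn.2.2.le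
  have hnot : ∀ y : ℚ, |(y : ℝ)| = (n : ℝ) → Φ.eval y ≠ 0 := fun y hy h => by
    refine (hroot (y : ℝ) ?_).ne hy
    rw [Polynomial.mem_roots (rPoly_ne_zero hΦ0), Polynomial.IsRoot.def, eval_rPoly, h, Rat.cast_zero]
  obtain ⟨-, hin⟩ := conc_idx_zero_one hL hH hg hΦ n
    (by rw [PicMul.cl_tensor, PicMul.cl_tensor, PicMul.cl_tensorPow]; exact mul_comm _ _)
    (conc_of_isAmple (hn₁ n hN1).1)
  have hneg : Φ.eval (-(n : ℚ)) ≠ 0 := hnot _ (by simp)
  have hing : idx hL hH (-(n : ℚ)) = g := by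
    have hG := (hn₂ n hN2).1
    have hGP : PicF.cl (CohB1.tensorMod (CohB1.tensorPow H n) D) * PicF.cl (P hL hH ((1 : ℕ) : ℤ) (-(n : ℤ))) = 1 := by
      rw [PicMul.cl_tensor, PicMul.cl_tensorPow, ← val_ucl hH.1, cl_P, Nat.cast_one, zpow_one,
        ← Units.val_pow_eq_pow_val, Units.val_mul, zpow_neg, zpow_natCast, val_ucl]
      calc _ = (PicF.cl L * PicF.cl D) *
            (((ucl hH.1 ^ n : (PicF.Cl A.left)ˣ) : PicF.Cl A.left) * ((ucl hH.1 ^ n)⁻¹ : (PicF.Cl A.left)ˣ)) := by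
            ac_rfl
        _ = 1 := by rw [hLD, Units.mul_inv, mul_one]
    obtain ⟨-, hv, hne⟩ := AVIndex.concentrated_inverse hG.1 hGP hg (conc_of_isAmple hG).1 (conc_of_isAmple hG).2
    have hcg : Conc (P hL hH ((1 : ℕ) : ℤ) (-(n : ℤ))) g := ⟨by simpa using hv, by simpa using hne⟩
    exact Conc.unique (conc_idx hL hH hg hΦ hneg Nat.one_pos (by simp)).1 hcg
  have hnn : Φ.eval (n : ℚ) ≠ 0 := hnot _ (by simp)
  have hn0 : -(n : ℚ) ≤ 0 := by simp
  have h1 := idx_le_add_nRoots hL hH hg hΦ hΦ0 hneg h0 hn0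
  have h2 := idx_le_add_nRoots hL hH hg hΦ hΦ0 h0 hnn (Nat.cast_nonneg n)
  rw [hing, hi0] at h1
  rw [hi0, hin] at h2
  have hle : Multiset.card (rPoly Φ).roots ≤ g :=
    ((Polynomial.card_roots' _).trans Polynomial.natDegree_map_le).trans (natDegree_le hL hH hg hΦ)
  have hdeg : Multiset.card (rPoly Φ).roots ≤ Φ.natDegree :=
    (Polynomial.card_roots' _).trans Polynomial.natDegree_map_le
  have hneg' : nRoots Φ ((-(n : ℚ) : ℚ) : ℝ) ((0 : ℚ) : ℝ) ≤
      Multiset.card ((rPoly Φ).roots.filter fun t => ¬ 0 < t) :=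
    Multiset.card_le_card (Multiset.monotone_filter_right _ fun t ht => not_lt.2 (by simpa using ht.2.le))
  have hpos' : nRoots Φ ((0 : ℚ) : ℝ) ((n : ℚ) : ℝ) ≤ Multiset.card ((rPoly Φ).roots.filter fun t => 0 < t) :=
    Multiset.card_le_card (Multiset.monotone_filter_right _ fun t ht => by simpa using ht.1)
  have hsum : Multiset.card ((rPoly Φ).roots.filter fun t => 0 < t) +
      Multiset.card ((rPoly Φ).roots.filter fun t => ¬ 0 < t) = Multiset.card (rPoly Φ).roots := by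
    rw [← Multiset.card_add, Multiset.filter_add_not]
  have hdg := natDegree_le hL hH hg hΦ
  constructor <;> omega

include hL hH hg hΦ in
/-- The indices of `L` and `L ⊗ H` differ by at most the number of roots in between. -/
theorem index_le_add_nRoots {M : A.left.Modules} (hM : PicF.cl M = PicF.cl (CohB1.tensorMod L H)) {i i' : ℕ}
    (hc : Conc L i) (hc' : Conc M i') : i' ≤ i ∧ i ≤ i' + nRoots Φ 0 1 := by
  obtain ⟨h0, hi0⟩ := conc_idx_zero_one hL hH hg hΦ 0 (M := L)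
    (by rw [PicMul.cl_tensor, PicMul.cl_tensorPow, pow_zero, _root_.mul_one]) hc
  obtain ⟨h1, hi1⟩ := conc_idx_zero_one hL hH hg hΦ 1 (M := M)
    (by rw [hM, PicMul.cl_tensor, PicMul.cl_tensor, PicMul.cl_tensorPow, pow_one]) hc'
  rw [Nat.cast_zero] at h0 hi0
  rw [Nat.cast_one] at h1 hi1
  have h := idx_le_add_nRoots hL hH hg hΦ (fun h => h0 (by rw [h, Polynomial.eval_zero])) h0 h1 zero_le_one
  rw [hi0, hi1, Rat.cast_zero, Rat.cast_one] at h
  exact ⟨hi0 ▸ hi1 ▸ idx_anti hL hH hg hΦ h0 h1 zero_le_one, h⟩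

end Groth.Agent.AVRoots
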