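import Groth.Agent.AVRoots.Main

/-!
# The multiplicity of the root `0` of the Hilbert polynomial

It is the jump of the index at `0`, and does not depend on the ample module.
-/

noncomputable section

set_option autoImplicit false
set_option linter.style.haveILetI false
set_option linter.unusedSectionVars false
set_option backward.isDefEq.respectTransparency false
set_option backward.isDefEq.respectTransparency.types false
set_option maxHeartbeats 1000000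

universe u

open CategoryTheory CategoryTheory.Limits AlgebraicGeometry TopologicalSpace

namespace Groth.Agent.AVRoots

open Groth.Agent Groth.Agent.H23 Groth.Agent.VolLib
open scoped Groth.Agent.H23.PicMul

variable {k : Type u} [Field k] [IsAlgClosed k] {A : Over (Spec (CommRingCat.of k))} [GrpObj A] [IsProper A.hom]
  [GeometricallyIntegral A.hom] {L H : A.left.Modules} (hL : PicF.IsInvertible L) (hH : CohB1.IsAmple H)
  {g : ℕ} (hg : topologicalKrullDim A.left = g) {Φ : Polynomial ℚ}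
  (hΦ : ∀ n : ℕ, Φ.eval (n : ℚ) =
    (@Curv2.euler k _ A.left ⟨A.hom⟩ (CohB1.tensorMod L (CohB1.tensorPow H n)) : ℚ))

theorem compactSpace_left : CompactSpace A.left := QuasiCompact.compactSpace_of_compactSpace A.hom

theorem isSeparated_left : A.left.IsSeparated := ⟨by
  rw [← terminal.comp_from A.hom]
  infer_instance⟩

include hL hH hg in
/-- The Hilbert polynomial exists. -/
theorem exists_hilbert : ∃ Ψ : Polynomial ℚ, ∀ n : ℕ, Ψ.eval (n : ℚ) =
    (@Curv2.euler k _ A.left ⟨A.hom⟩ (CohB1.tensorMod L (CohB1.tensorPow H n)) : ℚ) := by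
  letI : A.left.Over (Spec (CommRingCat.of k)) := ⟨A.hom⟩
  haveI : IsProper (A.left ↘ Spec (CommRingCat.of k)) := ‹IsProper A.hom›
  obtain ⟨Q, -, hval⟩ := exists_eval_poly hL hH hg
  refine ⟨MvPolynomial.aeval ![1, Polynomial.X] Q, fun n => ?_⟩
  rw [AVEuler.eval_aeval_poly, ← CurveCohLib.euler_congr (k := k) (PicMul.cl_eq_iff.1 (cl_P_one hL hH n)).some, hval]
  congr 2
  funext i
  fin_cases i <;> simp

include hL hH hg hΦ in
theorem ne_zero : Φ ≠ 0 := by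
  haveI := compactSpace_left (A := A)
  haveI := isSeparated_left (A := A)
  obtain ⟨n₁, -, hn₁⟩ := AmpleX.eventually_ample_tensor hH hL
  intro h
  exact (conc_idx_zero_one hL hH hg hΦ n₁
    (by rw [PicMul.cl_tensor, PicMul.cl_tensor, PicMul.cl_tensorPow]; exact mul_comm _ _)
    (conc_of_isAmple (hn₁ n₁ le_rfl).1)).1 (by rw [h, Polynomial.eval_zero])

include hL hH hg hΦ in
/-- Far left the index is `g`, far right it is `0`. -/
theorem exists_endpoints : ∃ n : ℕ, 0 < n ∧ (∀ t ∈ (rPoly Φ).roots, |t| < (n : ℝ)) ∧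
    Φ.eval (n : ℚ) ≠ 0 ∧ idx hL hH (n : ℚ) = 0 ∧ Φ.eval (-(n : ℚ)) ≠ 0 ∧ idx hL hH (-(n : ℚ)) = g := by
  classical
  haveI := compactSpace_left (A := A)
  haveI := isSeparated_left (A := A)
  have hΦ0 := ne_zero hL hH hg hΦ
  obtain ⟨D, hD, ⟨e⟩⟩ := H23.PicInv.exists_inverse hL
  have hLD : PicF.cl L * PicF.cl D = 1 := by
    rw [← PicMul.cl_tensor, PicMul.one_def]; exact PicMul.cl_eq_iff.2 ⟨e⟩
  obtain ⟨n₁, -, hn₁⟩ := AmpleX.eventually_ample_tensor hH hL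
  obtain ⟨n₂, -, hn₂⟩ := AmpleX.eventually_ample_tensor hH hD
  let R := ∑ t ∈ (rPoly Φ).roots.toFinset, |t|
  obtain ⟨n, hn⟩ := exists_nat_gt (max R (max (n₁ : ℝ) n₂))
  simp only [max_lt_iff] at hn
  have hroot : ∀ t ∈ (rPoly Φ).roots, |t| < (n : ℝ) := fun t ht =>
    (Finset.single_le_sum (f := fun t : ℝ => |t|) (fun t _ => abs_nonneg t) (Multiset.mem_toFinset.2 ht)).trans_lt hn.1
  have hN1 : n₁ ≤ n := by exact_mod_cast hn.2.1.le
  have hN2 : n₂ ≤ n := by exact_mod_cast hn.2.2.le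
  have hnot : ∀ y : ℚ, |(y : ℝ)| = (n : ℝ) → Φ.eval y ≠ 0 := fun y hy h => by
    refine (hroot (y : ℝ) ?_).ne hy
    rw [Polynomial.mem_roots (rPoly_ne_zero hΦ0), Polynomial.IsRoot.def, eval_rPoly, h, Rat.cast_zero]
  obtain ⟨hn0, hin⟩ := conc_idx_zero_one hL hH hg hΦ n
    (by rw [PicMul.cl_tensor, PicMul.cl_tensor, PicMul.cl_tensorPow]; exact mul_comm _ _)
    (conc_of_isAmple (hn₁ n hN1).1)
  have hneg : Φ.eval (-(n : ℚ)) ≠ 0 := hnot _ (by simp)
  have hn' : 0 < n := by exact_mod_cast (Nat.cast_nonneg n₁).trans_lt hn.2.1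
  refine ⟨n, hn', hroot, hn0, hin, hneg, ?_⟩
  have hG := (hn₂ n hN2).1
  have hGP : PicF.cl (CohB1.tensorMod (CohB1.tensorPow H n) D) * PicF.cl (P hL hH ((1 : ℕ) : ℤ) (-(n : ℤ))) = 1 := by
    rw [PicMul.cl_tensor, PicMul.cl_tensorPow, ← val_ucl hH.1, cl_P, Nat.cast_one, zpow_one,
      ← Units.val_pow_eq_pow_val, Units.val_mul, zpow_neg, zpow_natCast, val_ucl]
    calc _ = (PicF.cl L * PicF.cl D) *
          (((ucl hH.1 ^ n : (PicF.Cl A.left)ˣ) : PicF.Cl A.left) * ((ucl hH.1 ^ n)⁻¹ : (PicF.Cl A.left)ˣ)) := by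
          ac_rfl
      _ = 1 := by rw [hLD, Units.mul_inv, mul_one]
  obtain ⟨-, hv, hne⟩ := AVIndex.concentrated_inverse hG.1 hGP hg (conc_of_isAmple hG).1 (conc_of_isAmple hG).2
  have hcg : Conc (P hL hH ((1 : ℕ) : ℤ) (-(n : ℤ))) g := ⟨by simpa using hv, by simpa using hne⟩
  exact Conc.unique (conc_idx hL hH hg hΦ hneg Nat.one_pos (by simp)).1 hcg

theorem nRoots_add_three_le (Φ : Polynomial ℚ) {a b c d : ℝ} (hab : a ≤ b) (hbc : b ≤ c) (hcd : c ≤ d) :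
    nRoots Φ a b + nRoots Φ b c + nRoots Φ c d ≤ Multiset.card (rPoly Φ).roots := by
  classical
  rw [nRoots, nRoots, nRoots, ← Multiset.card_add, ← Multiset.card_add]
  refine Multiset.card_le_card (Multiset.le_iff_count.2 fun t => ?_)
  rw [Multiset.count_add, Multiset.count_add, Multiset.count_filter, Multiset.count_filter, Multiset.count_filter]
  by_cases h1 : a < t ∧ t < b
  · rw [if_pos h1, if_neg (fun h => by linarith [h.1, h1.2]), if_neg (fun h => by linarith [h.1, h1.2])]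
    omega
  by_cases h2 : b < t ∧ t < c
  · rw [if_neg h1, if_pos h2, if_neg (fun h => by linarith [h.1, h2.2])]
    omega
  rw [if_neg h1, if_neg h2]
  split_ifs <;> omega

include hL hH hg hΦ in
/-- **The jump of the index at `0`** is the multiplicity. -/
theorem exists_pm : ∃ (ρ : ℝ) (ip im : ℕ), 0 < ρ ∧ im = ip + Φ.rootMultiplicity 0 ∧
    ∀ t : ℚ, 0 < t → (t : ℝ) < ρ →
      Φ.eval t ≠ 0 ∧ idx hL hH t = ip ∧ Φ.eval (-t) ≠ 0 ∧ idx hL hH (-t) = im := by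
  classical
  have hΦ0 := ne_zero hL hH hg hΦ
  obtain ⟨n, hn0, hroot, hn, hin, hnn, hinn⟩ := exists_endpoints hL hH hg hΦ
  let Z : Set ℝ := {t | t ∈ (rPoly Φ).roots ∧ t ≠ 0}
  have hZ : IsClosed Z :=
    ((rPoly Φ).roots.toFinset.finite_toSet.subset fun t ht => Multiset.mem_toFinset.2 ht.1).isClosed
  obtain ⟨ρ₀, hρ₀, hball⟩ := Metric.isOpen_iff.1 hZ.isOpen_compl 0 fun h => h.2 rfl
  have hsmall : ∀ t : ℝ, |t| < ρ₀ → t ∈ (rPoly Φ).roots → t = 0 := fun t ht htr => by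
    by_contra h
    exact hball (show t ∈ Metric.ball (0 : ℝ) ρ₀ by simpa using ht) ⟨htr, h⟩
  have hnon : ∀ t : ℚ, t ≠ 0 → |(t : ℝ)| < ρ₀ → Φ.eval t ≠ 0 := fun t ht0 ht h => ht0 (by
    have := hsmall t ht (by
      rw [Polynomial.mem_roots (rPoly_ne_zero hΦ0), Polynomial.IsRoot.def, eval_rPoly, h, Rat.cast_zero])
    exact_mod_cast this)
  have hzero : ∀ a b : ℝ, -ρ₀ < a → b < ρ₀ → (0 ≤ a ∨ b ≤ 0) → nRoots Φ a b = 0 := fun a b ha hb h => by
    rw [nRoots, Multiset.card_eq_zero, Multiset.filter_eq_nil]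
    intro t ht hab
    have h0 := hsmall t (abs_lt.2 ⟨by linarith [hab.1], by linarith [hab.2]⟩) ht
    rcases h with h | h <;> linarith [hab.1, hab.2]
  have hmid : ∀ a b : ℝ, -ρ₀ < a → a < 0 → 0 < b → b < ρ₀ → nRoots Φ a b = Φ.rootMultiplicity 0 := by
    intro a b ha ha0 hb0 hb
    rw [Polynomial.eq_rootMultiplicity_map (algebraMap ℚ ℝ).injective, map_zero, ← Polynomial.count_roots, nRoots,
      ← Multiset.card_replicate ((rPoly Φ).roots.count 0) (0 : ℝ)]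
    congr 1
    refine Multiset.ext.2 fun t => ?_
    rw [Multiset.count_filter, Multiset.count_replicate]
    by_cases ht : t = 0
    · subst ht
      rw [if_pos ⟨ha0, hb0⟩, if_pos rfl]
    · rw [if_neg (Ne.symm ht)]
      split_ifs with hab
      · exact Multiset.count_eq_zero.2 fun h =>
          ht (hsmall t (abs_lt.2 ⟨by linarith [hab.1], by linarith [hab.2]⟩) h)
      · rfl
  obtain ⟨ρ, hρdef⟩ : ∃ ρ : ℝ, ρ = min ρ₀ (n : ℝ) := ⟨_, rfl⟩
  have hρ : 0 < ρ := by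
    rw [hρdef]; exact lt_min hρ₀ (by exact_mod_cast hn0)
  have hρ1 : ρ ≤ ρ₀ := hρdef ▸ min_le_left _ _
  have hρ2 : ρ ≤ n := hρdef ▸ min_le_right _ _
  obtain ⟨t₀, ht₀, ht₀'⟩ := exists_rat_btwn hρ
  have ht₀0 : 0 < t₀ := by exact_mod_cast ht₀
  refine ⟨ρ, idx hL hH t₀, idx hL hH (-t₀), hρ, ?_, fun t ht0 htρ => ?_⟩
  · have ha : Φ.eval (-t₀) ≠ 0 := hnon _ (neg_ne_zero.2 ht₀0.ne') (by push_cast; rw [abs_neg, abs_of_pos ht₀]; linarith)
    have hb : Φ.eval t₀ ≠ 0 := hnon _ ht₀0.ne' (by rw [abs_of_pos ht₀]; linarith)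
    have hle1 : -(n : ℚ) ≤ -t₀ := by
      have : (t₀ : ℝ) ≤ n := by linarith
      exact neg_le_neg (by exact_mod_cast this)
    have hle2 : t₀ ≤ (n : ℚ) := by
      have : (t₀ : ℝ) ≤ n := by linarith
      exact_mod_cast this
    have e1 := idx_le_add_nRoots hL hH hg hΦ hΦ0 hnn ha hle1
    have e2 := idx_le_add_nRoots hL hH hg hΦ hΦ0 ha hb (by linarith)
    have e3 := idx_le_add_nRoots hL hH hg hΦ hΦ0 hb hn hle2
    rw [hinn] at e1
    rw [hin] at e3
    have e4 := nRoots_add_three_le Φ (a := ((-(n : ℚ) : ℚ) : ℝ)) (b := ((-t₀ : ℚ) : ℝ)) (c := (t₀ : ℝ))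
      (d := ((n : ℚ) : ℝ)) (Rat.cast_le.2 hle1) (Rat.cast_le.2 (by linarith)) (Rat.cast_le.2 hle2)
    have e5 : Multiset.card (rPoly Φ).roots ≤ g :=
      ((Polynomial.card_roots' _).trans Polynomial.natDegree_map_le).trans (natDegree_le hL hH hg hΦ)
    have e6 := hmid ((-t₀ : ℚ) : ℝ) (t₀ : ℝ) (by push_cast; linarith) (by push_cast; linarith) ht₀ (by linarith)
    omega
  · have htr : (0 : ℝ) < (t : ℝ) := by exact_mod_cast ht0
    have htn : Φ.eval t ≠ 0 := hnon t ht0.ne' (by rw [abs_of_pos htr]; linarith)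
    have htn' : Φ.eval (-t) ≠ 0 := hnon _ (neg_ne_zero.2 ht0.ne') (by push_cast; rw [abs_neg, abs_of_pos htr]; linarith)
    have ha : Φ.eval (-t₀) ≠ 0 := hnon _ (neg_ne_zero.2 ht₀0.ne') (by push_cast; rw [abs_neg, abs_of_pos ht₀]; linarith)
    have hb : Φ.eval t₀ ≠ 0 := hnon _ ht₀0.ne' (by rw [abs_of_pos ht₀]; linarith)
    have key : ∀ a b : ℚ, Φ.eval a ≠ 0 → Φ.eval b ≠ 0 → a ≤ b → -ρ₀ < (a : ℝ) → (b : ℝ) < ρ₀ →
        (0 ≤ (a : ℝ) ∨ (b : ℝ) ≤ 0) → idx hL hH a = idx hL hH b := fun a b ha hb hab h1 h2 h3 => by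
      have e1 := idx_le_add_nRoots hL hH hg hΦ hΦ0 ha hb hab
      have e2 := idx_anti hL hH hg hΦ ha hb hab
      rw [hzero _ _ h1 h2 h3] at e1
      omega
    refine ⟨htn, ?_, htn', ?_⟩
    · rcases le_total t t₀ with h | h
      · exact key t t₀ htn hb h (by linarith) (by linarith) (Or.inl htr.le)
      · exact (key t₀ t hb htn h (by linarith) (by linarith) (Or.inl ht₀.le)).symm
    · rcases le_total t t₀ with h | h
      · exact (key (-t₀) (-t) ha htn' (neg_le_neg h) (by push_cast; linarith) (by push_cast; linarith)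
          (Or.inr (by push_cast; linarith))).symm
      · exact key (-t) (-t₀) htn' ha (neg_le_neg h) (by push_cast; linarith) (by push_cast; linarith)
          (Or.inr (by push_cast; linarith))

/-- Comparing the families of two ample modules. -/
theorem idx_le_of_ample {H' R : A.left.Modules} (hH' : CohB1.IsAmple H') (hR : CohB1.IsAmple R) {c : ℕ}
    (hc : PicF.cl H' ^ c = PicF.cl H * PicF.cl R) (hg' : topologicalKrullDim A.left = g)
    (hΦ₁ : ∀ n : ℕ, Φ.eval (n : ℚ) =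
      (@Curv2.euler k _ A.left ⟨A.hom⟩ (CohB1.tensorMod L (CohB1.tensorPow H n)) : ℚ))
    {Φ' : Polynomial ℚ} (hΦ' : ∀ n : ℕ, Φ'.eval (n : ℚ) =
      (@Curv2.euler k _ A.left ⟨A.hom⟩ (CohB1.tensorMod L (CohB1.tensorPow H' n)) : ℚ))
    {t : ℚ} (ht : 0 < t) :
    (Φ.eval t ≠ 0 → Φ'.eval ((c : ℚ) * t) ≠ 0 → idx hL hH' ((c : ℚ) * t) ≤ idx hL hH t) ∧
      (Φ.eval (-t) ≠ 0 → Φ'.eval (-((c : ℚ) * t)) ≠ 0 → idx hL hH (-t) ≤ idx hL hH' (-((c : ℚ) * t))) := by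
  obtain ⟨p, hp⟩ : ∃ p : ℕ, t.num = (p : ℤ) := ⟨t.num.toNat, (Int.toNat_of_nonneg (Rat.num_nonneg.2 ht.le)).symm⟩
  have hp0 : 0 < p := by
    have h := Rat.num_pos.2 ht
    omega
  have hq : 0 < t.den := t.den_pos
  have hpt : ((p : ℤ) : ℚ) / (t.den : ℕ) = t := by rw [← hp, Rat.num_div_den]
  have hRp : CohB1.IsAmple (CohB1.tensorPow R p) := AmpleX.isAmple_tensorPow hR hp0
  have hu : ucl hH'.1 ^ (c : ℤ) = ucl hH.1 * ucl hR.1 := Units.ext (by
    rw [zpow_natCast, Units.val_pow_eq_pow_val, Units.val_mul, val_ucl, val_ucl, val_ucl, hc])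
  have h3 := conc_of_isAmple hRp
  constructor <;> intro hx hy
  · have hcl : PicF.cl (P hL hH' (t.den : ℤ) ((c : ℤ) * p)) =
        PicF.cl (P hL hH (t.den : ℤ) p) * PicF.cl (CohB1.tensorPow R p) := by
      rw [cl_P, cl_P, PicMul.cl_tensorPow, ← val_ucl hR.1, ← Units.val_pow_eq_pow_val, ← Units.val_mul, zpow_mul, hu,
        mul_zpow, ← zpow_natCast (ucl hR.1), mul_assoc]
    obtain ⟨h1, -⟩ := conc_idx hL hH hg' hΦ₁ hx hq hpt
    obtain ⟨h2, -⟩ := conc_idx hL hH' hg' hΦ' hy hq (p := (c : ℤ) * p) (by push_cast at hpt ⊢; rw [mul_div_assoc, hpt])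
    exact AVIndex.index_le_add (isInvertible_P hL hH _ _) hRp.1 (isInvertible_P hL hH' _ _) hcl
      (h1.finite (isInvertible_P hL hH _ _)) (h3.finite hRp.1) (h2.finite (isInvertible_P hL hH' _ _))
      h1.1 h1.2 h3.1 h3.2 h2.1 h2.2
  · have hcl : PicF.cl (P hL hH (t.den : ℤ) (-(p : ℤ))) =
        PicF.cl (P hL hH' (t.den : ℤ) (-((c : ℤ) * p))) * PicF.cl (CohB1.tensorPow R p) := by
      rw [cl_P, cl_P, PicMul.cl_tensorPow, ← val_ucl hR.1, ← Units.val_pow_eq_pow_val, ← Units.val_mul,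
        zpow_neg (ucl hH'.1), zpow_mul, hu, mul_zpow, mul_inv, ← zpow_natCast (ucl hR.1), zpow_neg, mul_assoc,
        mul_assoc, inv_mul_cancel, mul_one]
    obtain ⟨h1, -⟩ := conc_idx hL hH hg' hΦ₁ hx hq (p := -(p : ℤ)) (by push_cast at hpt ⊢; rw [neg_div, hpt])
    obtain ⟨h2, -⟩ := conc_idx hL hH' hg' hΦ' hy hq (p := -((c : ℤ) * p))
      (by push_cast at hpt ⊢; rw [neg_div, mul_div_assoc, hpt])
    exact AVIndex.index_le_add (isInvertible_P hL hH' _ _) hRp.1 (isInvertible_P hL hH _ _) hcl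
      (h2.finite (isInvertible_P hL hH' _ _)) (h3.finite hRp.1) (h1.finite (isInvertible_P hL hH _ _))
      h2.1 h2.2 h3.1 h3.2 h1.1 h1.2

include hL hH hg hΦ in
/-- **The multiplicity of `0` does not depend on the ample module.** -/
theorem rootMultiplicity_indep {H' : A.left.Modules} (hH' : CohB1.IsAmple H') {Φ' : Polynomial ℚ}
    (hΦ' : ∀ n : ℕ, Φ'.eval (n : ℚ) =
      (@Curv2.euler k _ A.left ⟨A.hom⟩ (CohB1.tensorMod L (CohB1.tensorPow H' n)) : ℚ)) :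
    Φ.rootMultiplicity 0 = Φ'.rootMultiplicity 0 := by
  haveI := compactSpace_left (A := A)
  haveI := isSeparated_left (A := A)
  have hexc : ∀ {U V : A.left.Modules}, CohB1.IsAmple U → CohB1.IsAmple V → ∃ (c : ℕ) (R : A.left.Modules),
      0 < c ∧ CohB1.IsAmple R ∧ PicF.cl U ^ c = PicF.cl V * PicF.cl R := fun {U V} hU hV => by
    obtain ⟨D, hD, ⟨e⟩⟩ := H23.PicInv.exists_inverse hV.1
    obtain ⟨c, hc, hc'⟩ := AmpleX.eventually_ample_tensor hU hD
    refine ⟨c, _, hc, (hc' c le_rfl).1, ?_⟩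
    rw [PicMul.cl_tensor, PicMul.cl_tensorPow, mul_left_comm, ← PicMul.cl_tensor V D, PicMul.cl_eq_iff.2 ⟨e⟩,
      ← PicMul.one_def, mul_one]
  obtain ⟨c, R, hc, hR, hcR⟩ := hexc hH' hH
  obtain ⟨d, R', hd, hR', hdR⟩ := hexc hH hH'
  obtain ⟨ρ, ip, im, hρ, hμ, h⟩ := exists_pm hL hH hg hΦ
  obtain ⟨ρ', ip', im', hρ', hμ', h'⟩ := exists_pm hL hH' hg hΦ'
  obtain ⟨t, ht0, ht⟩ := exists_rat_btwn (show (0 : ℝ) < min ρ ρ' / ((c : ℝ) + d + 1) from
    div_pos (lt_min hρ hρ') (by positivity))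
  rw [lt_div_iff₀ (by positivity)] at ht
  have ht0' : 0 < t := by exact_mod_cast ht0
  have hmin1 := min_le_left ρ ρ'
  have hmin2 := min_le_right ρ ρ'
  have hc' : (0 : ℝ) ≤ (t : ℝ) * c := by positivity
  have hd' : (0 : ℝ) ≤ (t : ℝ) * d := by positivity
  obtain ⟨a1, a2, a3, a4⟩ := h t ht0' (by nlinarith)
  obtain ⟨b1, b2, b3, b4⟩ := h' t ht0' (by nlinarith)
  obtain ⟨c1, c2, c3, c4⟩ := h' ((c : ℚ) * t) (by positivity) (by push_cast; nlinarith)
  obtain ⟨d1, d2, d3, d4⟩ := h ((d : ℚ) * t) (by positivity) (by push_cast; nlinarith)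
  obtain ⟨e1, e2⟩ := idx_le_of_ample hL hH hH' hR hcR hg hΦ hΦ' ht0'
  obtain ⟨f1, f2⟩ := idx_le_of_ample hL hH' hH hR' hdR hg hΦ' hΦ ht0'
  have g1 := e1 a1 c1
  have g2 := e2 a3 c3
  have g3 := f1 b1 d1
  have g4 := f2 b3 d3
  omega

end Groth.Agent.AVRoots
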