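import Groth.Agent.VolLib.SecAvoid
import Groth.Agent.AmpleVan.Iter

/-!
# Towers of cokernels by powers of a regular sequence of sections
-/

noncomputable section

set_option autoImplicit false
set_option linter.style.haveILetI false
set_option linter.unusedSectionVars false
set_option backward.isDefEq.respectTransparency false
set_option backward.isDefEq.respectTransparency.types false
set_option maxHeartbeats 1000000

universe u

open CategoryTheory CategoryTheory.Limits AlgebraicGeometry TopologicalSpace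

namespace Groth.Agent.AVRoots

/-- The cokernels of a transformation of short exact sequences with injective ends. -/
theorem shortExact_cokernel {C : Type*} [Category C] [Abelian C] {S S' : ShortComplex C} (hS : S.ShortExact)
    (hS' : S'.ShortExact) (φ : S ⟶ S') (h1 : Mono φ.τ₁) (h3 : Mono φ.τ₃) :
    Mono φ.τ₂ ∧ (ShortComplex.mk (cokernel.map φ.τ₁ φ.τ₂ S.f S'.f φ.comm₁₂)
      (cokernel.map φ.τ₂ φ.τ₃ S.g S'.g φ.comm₂₃) (by
        rw [← cancel_epi (cokernel.π φ.τ₁), cokernel.π_desc_assoc, Category.assoc, cokernel.π_desc,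
          comp_zero, ← Category.assoc, S'.zero, zero_comp])).ShortExact := by
  have := hS.mono_f
  have := hS'.mono_f
  have := hS.epi_g
  have := hS'.epi_g
  haveI h2 : Mono φ.τ₂ := ShortComplex.mono_τ₂_of_exact_of_mono φ hS.exact
  refine ⟨h2, ?_⟩
  have he : Epi (cokernel.map φ.τ₂ φ.τ₃ S.g S'.g φ.comm₂₃) := by
    haveI : Epi (cokernel.π φ.τ₂ ≫ cokernel.map φ.τ₂ φ.τ₃ S.g S'.g φ.comm₂₃) := by
      rw [cokernel.π_desc]; exact epi_comp _ _
    exact epi_of_epi (cokernel.π φ.τ₂) _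
  refine ShortComplex.ShortExact.mk' ?_ ?_ he
  · rw [ShortComplex.exact_iff_exact_up_to_refinements]
    intro T x hx
    dsimp at x hx
    obtain ⟨T₁, π₁, hπ₁, y, hy⟩ := surjective_up_to_refinements_of_epi (cokernel.π φ.τ₂) x
    have h0 : (y ≫ S'.g) ≫ cokernel.π φ.τ₃ = 0 := by
      have h := congrArg (· ≫ cokernel.map φ.τ₂ φ.τ₃ S.g S'.g φ.comm₂₃) hy
      simp only [Category.assoc, cokernel.π_desc] at h
      rw [Category.assoc, ← h, hx, comp_zero]
    obtain ⟨T₂, π₂, hπ₂, z, hz⟩ := (ShortComplex.exact_of_g_is_cokernel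
      (ShortComplex.mk φ.τ₃ (cokernel.π φ.τ₃) (cokernel.condition _)) (cokernelIsCokernel _)).exact_up_to_refinements
        (y ≫ S'.g) h0
    dsimp at z hz
    obtain ⟨T₃, π₃, hπ₃, w, hw⟩ := surjective_up_to_refinements_of_epi S.g z
    have h4 : (π₃ ≫ π₂ ≫ y - w ≫ φ.τ₂) ≫ S'.g = 0 := by
      rw [Preadditive.sub_comp, Category.assoc w, φ.comm₂₃, ← Category.assoc w, ← hw]
      simp only [Category.assoc]
      rw [hz, sub_self]
    obtain ⟨T₄, π₄, hπ₄, v, hv⟩ := hS'.exact.exact_up_to_refinements _ h4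
    refine ⟨T₄, π₄ ≫ π₃ ≫ π₂ ≫ π₁, inferInstance, v ≫ cokernel.π φ.τ₁, ?_⟩
    show (π₄ ≫ π₃ ≫ π₂ ≫ π₁) ≫ x = (v ≫ cokernel.π φ.τ₁) ≫ cokernel.map φ.τ₁ φ.τ₂ S.f S'.f φ.comm₁₂
    rw [Category.assoc v, cokernel.π_desc, ← Category.assoc v, ← hv]
    simp only [Category.assoc, hy, Preadditive.comp_sub, Preadditive.sub_comp, cokernel.condition, comp_zero,
      sub_zero]
  · refine Preadditive.mono_of_cancel_zero _ fun {T} x hx => ?_
    obtain ⟨T₁, π₁, hπ₁, y, hy⟩ := surjective_up_to_refinements_of_epi (cokernel.π φ.τ₁) x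
    have h0 : (y ≫ S'.f) ≫ cokernel.π φ.τ₂ = 0 := by
      have h := congrArg (· ≫ cokernel.map φ.τ₁ φ.τ₂ S.f S'.f φ.comm₁₂) hy
      simp only [Category.assoc, cokernel.π_desc] at h
      rw [Category.assoc, ← h, hx, comp_zero]
    obtain ⟨T₂, π₂, hπ₂, z, hz⟩ := (ShortComplex.exact_of_g_is_cokernel
      (ShortComplex.mk φ.τ₂ (cokernel.π φ.τ₂) (cokernel.condition _)) (cokernelIsCokernel _)).exact_up_to_refinements
        (y ≫ S'.f) h0
    dsimp at z hz
    have h5 : z ≫ S.g = 0 := by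
      rw [← cancel_mono φ.τ₃, zero_comp, Category.assoc, ← φ.comm₂₃, ← Category.assoc, ← hz]
      simp [S'.zero]
    obtain ⟨T₃, π₃, hπ₃, w, hw⟩ := hS.exact.exact_up_to_refinements z h5
    have h6 : π₃ ≫ π₂ ≫ y = w ≫ φ.τ₁ := by
      rw [← cancel_mono S'.f, Category.assoc w, φ.comm₁₂, ← Category.assoc w, ← hw]
      simp only [Category.assoc]
      rw [hz]
    rw [← cancel_epi π₁, ← cancel_epi π₂, ← cancel_epi π₃, hy]
    simp only [← Category.assoc, comp_zero]
    rw [show (π₃ ≫ π₂) ≫ y = w ≫ φ.τ₁ by rw [Category.assoc]; exact h6]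
    simp [Category.assoc]

variable {X : Scheme.{u}}

open AmpleVan (itw pw mulSec tw)

theorem isEquivalence_itw {B : X.Modules} (hB : PicF.IsInvertible B) : ∀ n, (itw B n).IsEquivalence
  | 0 => show (𝟭 X.Modules).IsEquivalence from inferInstance
  | n + 1 => by
    haveI := isEquivalence_itw hB n
    haveI := AmpleVan.isEquivalence_tw hB
    exact show (itw B n ⋙ tw B).IsEquivalence from inferInstance

theorem additive_itw {B : X.Modules} (hB : PicF.IsInvertible B) (n : ℕ) : (itw B n).Additive :=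
  haveI := isEquivalence_itw hB n
  Functor.additive_of_preserves_binary_products _

variable {B : X.Modules} (hB : PicF.IsInvertible B)

/-- The sequence `0 → M → M ⊗ B^N → Q → 0` of a power of a section. -/
abbrev cQ (σ : Γ(B, ⊤)) (N : ℕ) : X.Modules ⥤ X.Modules where
  obj M := cokernel ((pw σ N).app M)
  map {M M'} f := cokernel.map _ _ f ((itw B N).map f) ((pw σ N).naturality f).symm
  map_id M := by
    refine (cancel_epi (cokernel.π ((pw σ N).app M))).1 ?_
    rw [cokernel.π_desc, CategoryTheory.Functor.map_id, Category.id_comp, Category.comp_id]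
  map_comp {M M' M''} f f' := by
    refine (cancel_epi (cokernel.π ((pw σ N).app M))).1 ?_
    rw [cokernel.π_desc, cokernel.π_desc_assoc, Category.assoc, cokernel.π_desc, ← Category.assoc,
      CategoryTheory.Functor.map_comp]

include hB in
theorem cQ_shortExact (σ : Γ(B, ⊤)) (N : ℕ) {S : ShortComplex X.Modules} (hS : S.ShortExact)
    (h1 : Mono ((pw σ N).app S.X₁)) (h3 : Mono ((pw σ N).app S.X₃)) :
    Mono ((pw σ N).app S.X₂) ∧ ∃ hz : (cQ σ N).map S.f ≫ (cQ σ N).map S.g = 0,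
      (ShortComplex.mk ((cQ σ N).map S.f) ((cQ σ N).map S.g) hz).ShortExact := by
  haveI := isEquivalence_itw hB N
  haveI := additive_itw hB N
  let φ : S ⟶ S.map (itw B N) := ShortComplex.homMk ((pw σ N).app S.X₁) ((pw σ N).app S.X₂) ((pw σ N).app S.X₃)
    ((pw σ N).naturality S.f).symm ((pw σ N).naturality S.g).symm
  obtain ⟨h2, hc⟩ := shortExact_cokernel hS (hS.map_of_exact (itw B N)) φ h1 h3
  exact ⟨h2, _, hc⟩

/-- Regular sequences. -/
def Reg : List Γ(B, ⊤) → X.Modules → Prop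
  | [], _ => True
  | σ :: l, M => Mono (mulSec σ M) ∧ Reg l (cokernel (mulSec σ M))

theorem Reg.of_iso : ∀ {l : List Γ(B, ⊤)} {M M' : X.Modules}, (M ≅ M') → Reg l M → Reg l M'
  | [], _, _, _, _ => trivial
  | σ :: l, M, M', e, ⟨h1, h2⟩ => by
    have hn : e.hom ≫ mulSec σ M' = mulSec σ M ≫ (tw B).map e.hom := AmpleVan.mulSec_naturality σ e.hom
    have h : mulSec σ M' = e.inv ≫ mulSec σ M ≫ (tw B).map e.hom := by rw [← hn, e.inv_hom_id_assoc]
    refine ⟨?_, Reg.of_iso ?_ h2⟩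
    · rw [h]; infer_instance
    · exact cokernel.mapIso _ _ e ((tw B).mapIso e) hn.symm

theorem reg_of_isZero : ∀ (l : List Γ(B, ⊤)) {M : X.Modules}, IsZero M → Reg l M
  | [], _, _ => trivial
  | σ :: l, M, hM => ⟨⟨fun _ _ _ => hM.eq_of_tgt _ _⟩, reg_of_isZero l (by
      refine IsZero.of_epi_eq_zero (cokernel.π (mulSec σ M)) ?_
      haveI : (tw B).Additive := inferInstance
      exact ((tw B).map_isZero hM).eq_of_src _ _)⟩

include hB in
theorem Reg.ext : ∀ {l : List Γ(B, ⊤)} {S : ShortComplex X.Modules}, S.ShortExact → Reg l S.X₁ → Reg l S.X₃ →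
    Reg l S.X₂
  | [], _, _, _, _ => trivial
  | σ :: l, S, hS, ⟨h1, h1'⟩, ⟨h3, h3'⟩ => by
    haveI := AmpleVan.isEquivalence_tw hB
    haveI : (tw B).Additive := Functor.additive_of_preserves_binary_products _
    obtain ⟨h2, hc⟩ := shortExact_cokernel hS (hS.map_of_exact (tw B))
      (ShortComplex.homMk (mulSec σ S.X₁) (mulSec σ S.X₂) (mulSec σ S.X₃)
        (AmpleVan.mulSec_naturality σ S.f).symm (AmpleVan.mulSec_naturality σ S.g).symm) h1 h3
    exact ⟨h2, Reg.ext hc h1' h3'⟩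

include hB in
theorem Reg.twist : ∀ {l : List Γ(B, ⊤)} {M : X.Modules}, Reg l M → Reg l ((tw B).obj M)
  | [], _, _ => trivial
  | σ :: l, M, ⟨h1, h2⟩ => by
    haveI := AmpleVan.isEquivalence_tw hB
    have h := AmpleVan.tw_map_mulSec hB σ M
    refine ⟨h ▸ inferInstance, Reg.of_iso ?_ (Reg.twist h2)⟩
    exact PreservesCokernel.iso (tw B) (mulSec σ M) ≪≫ cokernelIsoOfEq h

include hB in
theorem Reg.itwist {l : List Γ(B, ⊤)} {M : X.Modules} (h : Reg l M) : ∀ n, Reg l ((itw B n).obj M)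
  | 0 => h
  | n + 1 => (Reg.itwist h n).twist hB

include hB in
/-- Multiplication by a section commutes with the iterated twists, up to the cokernel. -/
theorem cok_itw (σ : Γ(B, ⊤)) (M : X.Modules) : ∀ n,
    Nonempty ((itw B n).obj (cokernel (mulSec σ M)) ≅ cokernel (mulSec σ ((itw B n).obj M)))
  | 0 => ⟨Iso.refl _⟩
  | n + 1 => by
    haveI := AmpleVan.isEquivalence_tw hB
    obtain ⟨e⟩ := cok_itw σ M n
    exact ⟨(tw B).mapIso e ≪≫ PreservesCokernel.iso (tw B) (mulSec σ ((itw B n).obj M)) ≪≫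
      cokernelIsoOfEq (AmpleVan.tw_map_mulSec hB σ _)⟩

/-- Iterated twists compose. -/
theorem itw_add (M : X.Modules) (e n : ℕ) :
    Nonempty ((itw B n).obj ((itw B e).obj M) ≅ (itw B (e + n)).obj M) := by
  induction n with
  | zero => exact ⟨eqToIso (by rw [Nat.add_zero]; rfl)⟩
  | succ n ih =>
    obtain ⟨θ⟩ := ih
    exact ⟨(tw B).mapIso θ ≪≫ eqToIso (by rw [Nat.add_succ]; rfl)⟩

include hB in
/-- The filtration of the cokernel of a power. -/
theorem pw_step (σ : Γ(B, ⊤)) {M : X.Modules} (h : ∀ n, Mono (mulSec σ ((itw B n).obj M))) (N : ℕ) :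
    Mono ((pw σ N).app M) ∧ ∃ (f : cokernel ((pw σ N).app M) ⟶ cokernel ((pw σ (N + 1)).app M))
      (g : cokernel ((pw σ (N + 1)).app M) ⟶ cokernel (mulSec σ ((itw B N).obj M))) (hz : f ≫ g = 0),
        (ShortComplex.mk f g hz).ShortExact := by
  have hm : ∀ n, Mono ((pw σ n).app M) := by
    intro n
    induction n with
    | zero => exact show Mono (𝟙 M) from inferInstance
    | succ n ih =>
      haveI := ih; haveI := h n
      rw [AmpleVan.pw_succ]
      exact mono_comp _ _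
  haveI := hm N
  haveI := h N
  let a := (pw σ N).app M
  let b := mulSec σ ((itw B N).obj M)
  let f : cokernel a ⟶ cokernel (a ≫ b) :=
    cokernel.map a (a ≫ b) (𝟙 _) b (by rw [Category.id_comp])
  let g : cokernel (a ≫ b) ⟶ cokernel b :=
    cokernel.map (a ≫ b) b a (𝟙 _) (by rw [Category.comp_id])
  have hz : f ≫ g = 0 := by
    rw [← cancel_epi (cokernel.π a), cokernel.π_desc_assoc, Category.assoc, cokernel.π_desc,
      Category.id_comp, cokernel.condition, comp_zero]
  refine ⟨hm N, f, g, hz, ?_⟩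
  have he : Epi g := by
    haveI : Epi (cokernel.π (a ≫ b) ≫ g) := by rw [cokernel.π_desc, Category.id_comp]; infer_instance
    exact epi_of_epi (cokernel.π (a ≫ b)) g
  refine ShortComplex.ShortExact.mk' ?_ ?_ he
  · rw [ShortComplex.exact_iff_exact_up_to_refinements]
    intro T x hx
    dsimp at x hx
    obtain ⟨T₁, π₁, hπ₁, y, hy⟩ := surjective_up_to_refinements_of_epi (cokernel.π (a ≫ b)) x
    have h0 : y ≫ cokernel.π b = 0 := by
      have h : π₁ ≫ x ≫ g = y ≫ cokernel.π b :=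
        ((Category.assoc _ _ _).symm.trans ((congrArg (· ≫ g) hy).trans (Category.assoc _ _ _))).trans
          (congrArg (y ≫ ·) ((cokernel.π_desc _ _ _).trans (Category.id_comp _)))
      rw [← h, hx, comp_zero]
    obtain ⟨T₂, π₂, hπ₂, z, hz2⟩ := (ShortComplex.exact_of_g_is_cokernel
      (ShortComplex.mk b (cokernel.π b) (cokernel.condition _)) (cokernelIsCokernel _)).exact_up_to_refinements y h0
    dsimp at z hz2
    refine ⟨T₂, π₂ ≫ π₁, inferInstance, z ≫ cokernel.π a, ?_⟩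
    show (π₂ ≫ π₁) ≫ x = (z ≫ cokernel.π a) ≫ f
    rw [Category.assoc z, cokernel.π_desc, ← Category.assoc z, ← hz2, Category.assoc, hy, Category.assoc]
  · refine Preadditive.mono_of_cancel_zero _ fun {T} x hx => ?_
    obtain ⟨T₁, π₁, hπ₁, y, hy⟩ := surjective_up_to_refinements_of_epi (cokernel.π a) x
    have h0 : (y ≫ b) ≫ cokernel.π (a ≫ b) = 0 := by
      have h : π₁ ≫ x ≫ f = y ≫ b ≫ cokernel.π (a ≫ b) :=
        ((Category.assoc _ _ _).symm.trans ((congrArg (· ≫ f) hy).trans (Category.assoc _ _ _))).trans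
          (congrArg (y ≫ ·) (cokernel.π_desc _ _ _))
      rw [Category.assoc, ← h, hx, comp_zero]
    obtain ⟨T₂, π₂, hπ₂, z, hz2⟩ := (ShortComplex.exact_of_g_is_cokernel
      (ShortComplex.mk (a ≫ b) (cokernel.π (a ≫ b)) (cokernel.condition _)) (cokernelIsCokernel _)).exact_up_to_refinements
        (y ≫ b) h0
    dsimp at z hz2
    have h6 : π₂ ≫ y = z ≫ a := by rw [← cancel_mono b, Category.assoc, Category.assoc]; exact hz2
    rw [← cancel_epi π₁, ← cancel_epi π₂, hy, ← Category.assoc, h6, Category.assoc, cokernel.condition]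
    simp

include hB in
theorem isZero_cok_zero (σ : Γ(B, ⊤)) (M : X.Modules) : IsZero (cokernel ((pw σ 0).app M)) :=
  isZero_cokernel_of_epi (𝟙 M)

include hB in
theorem Reg.cok {σ : Γ(B, ⊤)} {l : List Γ(B, ⊤)} {M : X.Modules} (h : Reg (σ :: l) M) :
    ∀ N, Mono ((pw σ N).app M) ∧ Reg l (cokernel ((pw σ N).app M)) := by
  have hm : ∀ n, Mono (mulSec σ ((itw B n).obj M)) := fun n => (h.itwist hB n).1
  intro N
  induction N with
  | zero => exact ⟨(pw_step hB σ hm 0).1, reg_of_isZero _ (isZero_cok_zero hB σ M)⟩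
  | succ N ih =>
    obtain ⟨-, f, g, hz, hS⟩ := pw_step hB σ hm N
    exact ⟨(pw_step hB σ hm (N + 1)).1, Reg.ext hB hS ih.2 (h.itwist hB N).2⟩

/-- The tower of cokernels. -/
def G (l : List Γ(B, ⊤)) (N : ℕ) : X.Modules ⥤ X.Modules :=
  match l with
  | [] => 𝟭 _
  | σ :: l => cQ σ N ⋙ G l N

include hB in
theorem G_shortExact : ∀ (l : List Γ(B, ⊤)) (N : ℕ) {S : ShortComplex X.Modules}, S.ShortExact →
    Reg l S.X₁ → Reg l S.X₃ → ∃ hz : (G l N).map S.f ≫ (G l N).map S.g = 0,
      (ShortComplex.mk ((G l N).map S.f) ((G l N).map S.g) hz).ShortExact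
  | [], N, S, hS, _, _ => ⟨S.zero, hS⟩
  | σ :: l, N, S, hS, h1, h3 => by
    obtain ⟨-, hz, hc⟩ := cQ_shortExact hB σ N hS (h1.cok hB N).1 (h3.cok hB N).1
    exact G_shortExact l N hc (h1.cok hB N).2 (h3.cok hB N).2

theorem G_isZero : ∀ (l : List Γ(B, ⊤)) (N : ℕ), PicF.IsInvertible B → ∀ {M : X.Modules}, IsZero M →
    IsZero ((G l N).obj M)
  | [], _, _, _, hM => hM
  | σ :: l, N, hB, M, hM => G_isZero l N hB (by
      refine IsZero.of_epi_eq_zero (cokernel.π ((pw σ N).app M)) ?_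
      haveI := isEquivalence_itw hB N
      haveI := additive_itw hB N
      exact ((itw B N).map_isZero hM).eq_of_src _ _)

end Groth.Agent.AVRoots
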